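import Cfsg.Agent.H287.OutA
import Cfsg.Agent.CTwoTab.HN
import Cfsg.Agent.KFacts.HS.Sheet
import Cfsg.Agent.CTwoTab.HS

/-!
# `HS`: the elements of order 7 and 11 commuting with an involution of `Aut(HS)` (helper287)
-/

set_option autoImplicit false

namespace Cfsg.Agent.H287.OutHN

open Subgroup Cfsg
open Cfsg.Agent.HN Cfsg.Agent.HN.Pres Cfsg.Agent.HN.HS100 Cfsg.Agent.HN.P1408 Cfsg.Agent.HN.H0Basic
open Cfsg.Agent.HN.Local Cfsg.Agent.HN.Iota
open Cfsg.Agent.KFacts.HS Cfsg.Agent.KFacts.HS.DFour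

universe u

variable {L : Type u} [Group L] (D : Cfsg.Agent.KFacts.HS.Mod L)

theorem card_centralizer_conj {G : Type*} [Group G] (c x : G) :
    Nat.card ↥(centralizer ({c * x * c⁻¹} : Set G)) = Nat.card ↥(centralizer ({x} : Set G)) := by
  have h : (centralizer ({x} : Set G)).map (MulAut.conj c).toMonoidHom = centralizer ({c * x * c⁻¹} : Set G) := by
    ext y
    rw [mem_map]
    constructor
    · rintro ⟨z, hz, rfl⟩
      rw [mem_centralizer_singleton_iff] at hz ⊢
      change c * z * c⁻¹ * (c * x * c⁻¹) = c * x * c⁻¹ * (c * z * c⁻¹)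
      calc c * z * c⁻¹ * (c * x * c⁻¹) = c * (z * x) * c⁻¹ := by group
        _ = c * (x * z) * c⁻¹ := by rw [hz]
        _ = _ := by group
    · intro hy
      rw [mem_centralizer_singleton_iff] at hy
      refine ⟨c⁻¹ * y * c, ?_, ?_⟩
      · rw [mem_centralizer_singleton_iff]
        calc c⁻¹ * y * c * x = c⁻¹ * (y * (c * x * c⁻¹)) * c := by group
          _ = c⁻¹ * (c * x * c⁻¹ * y) * c := by rw [hy]
          _ = _ := by group
      · change c * (c⁻¹ * y * c) * c⁻¹ = y
        group
  rw [← h, card_map_of_injective (MulAut.conj c).injective]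

theorem card_zA [Finite L] : Nat.card ↥(centralizer ({zA D} : Set L)) = 7680 := by
  have hz : Nat.card ↥(centralizer ({D.z} : Set L)) = 7680 := D.card_centralizer
  have h1 : D.z * D.z = 1 ∧ D.z ≠ 1 := ⟨D.zz, D.z1⟩
  rcases inv_cases D D.z h1.1 h1.2 with ⟨c, hc⟩ | ⟨c, hc⟩
  · rw [← hc, card_centralizer_conj] at hz
    exact hz
  · exfalso
    rw [← hc, card_centralizer_conj] at hz
    have := card_C D
    omega

/-- a subgroup not containing a central involution -/
theorem two_mul_dvd {G : Type*} [Group G] {B C : Subgroup G} [Finite C] (hB : B ≤ C) {s : G} (hs : s ∈ C)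
    (hc : ∀ x ∈ B, x * s = s * x) (hss : s * s = 1) (hsB : s ∉ B) : 2 * Nat.card ↥B ∣ Nat.card ↥C := by
  have hz : ∀ z ∈ zpowers s, z = 1 ∨ z = s := by
    rintro _ ⟨n, rfl⟩
    rcases Int.even_or_odd n with ⟨m, rfl⟩ | ⟨m, rfl⟩
    · left
      change s ^ (m + m) = 1
      rw [← two_mul, zpow_mul, show s ^ (2 : ℤ) = 1 by rw [← hss]; exact zpow_two s, one_zpow]
    · right
      change s ^ (2 * m + 1) = s
      rw [zpow_add, zpow_mul, zpow_one, show s ^ (2 : ℤ) = 1 by rw [← hss]; exact zpow_two s, one_zpow, one_mul]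
  have hzc : ∀ z ∈ zpowers s, ∀ x ∈ B, x * z = z * x := by
    intro z h x hx
    rcases hz z h with rfl | rfl
    · rw [mul_one, one_mul]
    · exact hc x hx
  let f : ↥B × ↥(zpowers s) →* ↥C :=
    { toFun := fun p => ⟨(p.1 : G) * (p.2 : G), mul_mem (hB p.1.2) ((zpowers_le.2 hs) p.2.2)⟩
      map_one' := Subtype.ext (mul_one _)
      map_mul' := fun p q => Subtype.ext (by
        change ((p.1 : G) * (q.1 : G)) * ((p.2 : G) * (q.2 : G)) = (p.1 : G) * (p.2 : G) * ((q.1 : G) * (q.2 : G))
        calc ((p.1 : G) * (q.1 : G)) * ((p.2 : G) * (q.2 : G)) = (p.1 : G) * ((q.1 : G) * (p.2 : G)) * (q.2 : G) := by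
              group
          _ = (p.1 : G) * ((p.2 : G) * (q.1 : G)) * (q.2 : G) := by rw [hzc _ p.2.2 _ q.1.2]
          _ = _ := by group) }
  have hf : Function.Injective f := by
    rw [injective_iff_map_eq_one]
    rintro ⟨⟨a, ha⟩, ⟨b, hb⟩⟩ h
    have h1 : a * b = 1 := congrArg Subtype.val h
    rcases hz b hb with rfl | rfl
    · rw [mul_one] at h1
      subst h1
      rfl
    · exfalso
      apply hsB
      have h2 : a = b⁻¹ := eq_inv_of_mul_eq_one_left h1
      rw [← inv_inv b, ← h2]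
      exact inv_mem ha
  have h1 : Nat.card (↥B × ↥(zpowers s)) ∣ Nat.card ↥C := card_dvd_of_injective f hf
  have h2 : Nat.card ↥(zpowers s) = 2 := by
    rw [Nat.card_zpowers]
    refine orderOf_eq_prime (by rw [pow_two, hss]) ?_
    rintro rfl
    exact hsB B.one_mem
  rw [Nat.card_prod, h2, mul_comm] at h1
  exact h1

theorem dvd_wB [Finite L] : 720 ∣ Nat.card ↥(centralizer ({wB D} : Set L)) := by
  have h := two_mul_dvd (CTwoTab.HS.LA_le D) (s := wB D) (mem_centralizer_singleton_iff.2 rfl)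
    (fun x hx => LA_comm D hx) (wB_sq D) (wB_not_mem_LA D)
  rw [card_LA] at h
  exact h

include D in
/-- no element of order 7 or 11 commutes with an involution of `HS` -/
theorem inner_not_dvd {x : L} (hx : orderOf x = 2) :
    ¬ 7 ∣ Nat.card ↥(centralizer ({x} : Set L)) ∧ ¬ 11 ∣ Nat.card ↥(centralizer ({x} : Set L)) := by
  have : Finite L := DFour.fin D
  have hxx : x * x = 1 := by rw [← pow_two, ← hx, pow_orderOf_eq_one]
  have hx1 : x ≠ 1 := by
    rintro rfl
    rw [orderOf_one] at hx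
    omega
  rcases inv_cases D x hxx hx1 with ⟨c, rfl⟩ | ⟨c, rfl⟩
  · rw [card_centralizer_conj, card_zA]
    norm_num
  · rw [card_centralizer_conj]
    obtain ⟨k, hk⟩ := dvd_wB D
    have h1 := card_C D
    rw [hk] at h1 ⊢
    have h2 : k ≤ 4 := by omega
    have h3 : 0 < k := by
      rcases Nat.eq_zero_or_pos k with rfl | h
      · exfalso
        have : 0 < Nat.card ↥(centralizer ({wB D} : Set L)) := Nat.card_pos
        omega
      · exact h
    interval_cases k <;> norm_num

/-! ### in `H0` -/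

open Cfsg.Agent.CTwoTab.HN

theorem orderOf_Q0 : orderOf (NormalH.ψ τ) = 2 := by
  refine orderOf_eq_prime ?_ ?_
  · rw [← map_pow, pow_two, τ_mul_τ, map_one]
  · intro h
    exact τ_ne_one (Cfsg.Agent.KFacts.HN.emb.inj (h.trans (map_one _).symm))

/-- an element commuting with a conjugate of `W0` has order prime to 77 -/
theorem not_comm_W0 {x w : Cfsg.Spor.HN} (hx : IsConj x Cfsg.Agent.HN.XWords.W0) (hc : w * x = x * w) :
    ¬ 7 ∣ orderOf w ∧ ¬ 11 ∣ orderOf w := by
  obtain ⟨c, hc'⟩ := isConj_iff.1 hx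
  have h1 : Nat.card ↥(centralizer ({x} : Set Cfsg.Spor.HN)) = 3686400 := by
    rw [← card_centralizer_conj c x, hc']
    exact Cfsg.Agent.KFacts.HN.PCard.card_centralizer
  have h2 : orderOf w ∣ 3686400 := by
    rw [← h1]
    have h3 : w ∈ centralizer ({x} : Set Cfsg.Spor.HN) := mem_centralizer_singleton_iff.2 hc
    rw [← Subgroup.orderOf_mk w h3]
    exact orderOf_dvd_natCard _
  exact ⟨fun h => by have := h.trans h2; norm_num at this, fun h => by have := h.trans h2; norm_num at this⟩

theorem sq_mem_K (w : H0) : w * w ∈ K := by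
  have hK : K.Normal := K_normal
  rw [mem_K_iff]
  simp

theorem mem_K_of_odd {w : H0} (hw : Odd (orderOf w)) : w ∈ K := by
  obtain ⟨k, hk⟩ := hw
  have h1 : w ^ (2 * k + 1) = 1 := by rw [← hk, pow_orderOf_eq_one]
  have h2 : w = (w * w) ^ (k + 1) := by
    rw [← pow_two, ← pow_mul, show 2 * (k + 1) = 2 * k + 1 + 1 by ring, pow_succ, h1, one_mul]
  rw [h2]
  exact K.pow_mem (sq_mem_K w) _

theorem d_sq : Syl.d * Syl.d = 1 := by
  rw [← pow_two]
  exact Syl.d_sq'

theorem isConj_d_W0 : IsConj (NormalH.ψ Syl.d) Cfsg.Agent.HN.XWords.W0 := by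
  have h1 : orderOf (NormalH.ψ Syl.d) = 2 := by
    refine orderOf_eq_prime ?_ ?_
    · rw [← map_pow, pow_two, d_sq, map_one]
    · intro h
      exact Classes.d_ne_one (Cfsg.Agent.KFacts.HN.emb.inj (h.trans (map_one _).symm))
  rcases Cfsg.Agent.KFacts.HN.Classes.inv_class h1 with h | h
  · exact absurd h.symm Cfsg.Agent.KFacts.HN.hd
  · exact h

include D in
/-- **An element `h` with `h² ∈ {1, τ}` commuting with an element of order 7 or 11.** -/
theorem comm_cases {h w : H0} (hh : h ^ 2 = 1 ∨ h ^ 2 = τ) (hc : h * w = w * h) {p : ℕ} (hp : p = 7 ∨ p = 11)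
    (hw : orderOf w = p) : h = 1 ∨ h = τ ∨ IsConj gz h := by
  have hfin : Finite L := DFour.fin D
  have hpp : p.Prime := by rcases hp with rfl | rfl <;> norm_num
  have hodd : Odd p := by rcases hp with rfl | rfl <;> decide
  have hψ : orderOf (NormalH.ψ w) = orderOf w := orderOf_injective _ Cfsg.Agent.KFacts.HN.emb.inj w
  by_cases hK : h ∈ K
  · by_contra hcon
    push Not at hcon
    obtain ⟨h1, h2, -⟩ := hcon
    have hwK : w ∈ K := mem_K_of_odd (by rw [hw]; exact hodd)
    have h3 : orderOf (D.π ⟨h, hK⟩) = 2 := by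
      refine orderOf_eq_prime ?_ ?_
      · rw [← map_pow]
        exact (D.ker _).2 hh
      · intro h3
        rcases (D.ker _).1 h3 with h3 | h3
        · exact h1 h3
        · exact h2 h3
    have h4 : D.π ⟨w, hwK⟩ ∈ centralizer ({D.π ⟨h, hK⟩} : Set L) := by
      rw [mem_centralizer_singleton_iff, ← map_mul, ← map_mul]
      congr 1
      exact Subtype.ext hc.symm
    have : Fact p.Prime := ⟨hpp⟩
    have h5 : orderOf (D.π ⟨w, hwK⟩) = p := by
      refine orderOf_eq_prime ?_ ?_
      · rw [← map_pow]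
        refine (D.ker _).2 (Or.inl ?_)
        change w ^ p = 1
        rw [← hw, pow_orderOf_eq_one]
      · intro h5
        rcases (D.ker _).1 h5 with h5 | h5
        · change w = 1 at h5
          rw [h5, orderOf_one] at hw
          exact hpp.one_lt.ne hw
        · change w = τ at h5
          have h6 : orderOf (τ : H0) = 2 := orderOf_eq_prime (by rw [pow_two, τ_mul_τ]) τ_ne_one
          rw [h5, h6] at hw
          omega
    have h6 : p ∣ Nat.card ↥(centralizer ({D.π ⟨h, hK⟩} : Set L)) := by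
      rw [← h5, ← Subgroup.orderOf_mk _ h4]
      exact orderOf_dvd_natCard _
    have h7 := inner_not_dvd D h3
    rcases hp with rfl | rfl
    · exact h7.1 h6
    · exact h7.2 h6
  · rcases Syl.sq_cases hh with h1 | h1 | h1 | h1 | h1 | h1 | h1
    · exact Or.inl h1
    · exact Or.inr (Or.inl h1)
    · exact absurd ((Classes.mem_K_of_isConj h1).1 KFacts.HS.DFour.aa_mem_K) hK
    · exact absurd ((Classes.mem_K_of_isConj h1).1 (K.mul_mem KFacts.HS.DFour.aa_mem_K τ_mem_K)) hK
    · exact absurd ((Classes.mem_K_of_isConj h1).1 CpAutTwo.HS.gx_mem_K) hK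
    · exact Or.inr (Or.inr h1)
    · exfalso
      have h2 : IsConj (NormalH.ψ h) Cfsg.Agent.HN.XWords.W0 := (NormalH.ψ.map_isConj h1).symm.trans isConj_d_W0
      have h3 := not_comm_W0 (w := NormalH.ψ w) h2 (by rw [← map_mul, ← map_mul, hc])
      rw [hψ, hw] at h3
      rcases hp with rfl | rfl
      · exact h3.1 dvd_rfl
      · exact h3.2 dvd_rfl

/-- elements of odd order commuting with `gz` -/
theorem comm_gz {w : H0} (hc : Commute w gz) {n : ℕ} (hn : w ^ (2 * n + 1) = 1) : ∃ s : A8, w = iota s := by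
  obtain ⟨q, hq, s, hs⟩ := IotaCent.cent.cent w (τ_comm w) hc
  have hC := IotaCent.cent
  have hqs : Commute q (iota s) := by
    rcases hq with rfl | rfl | rfl | rfl
    · exact Commute.one_left _
    · exact hC.cu s
    · exact hC.cv s
    · exact (hC.cu s).mul_left (hC.cv s)
  have hqq : q * q = 1 := by
    rcases hq with rfl | rfl | rfl | rfl
    · exact one_mul 1
    · exact hC.hu
    · exact hC.hv
    · calc τ * gz * (τ * gz) = τ * (gz * τ) * gz := by group
        _ = τ * (τ * gz) * gz := by rw [← hC.comm]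
        _ = (τ * τ) * (gz * gz) := by group
        _ = 1 := by rw [hC.hu, hC.hv, mul_one]
  refine ⟨s ^ (2 * n + 2), ?_⟩
  have h1 : w ^ (2 * n + 2) = w := by rw [pow_succ, hn, one_mul]
  rw [← h1]
  conv_lhs => rw [hs, hqs.mul_pow]
  rw [show 2 * n + 2 = 2 * (n + 1) by ring, pow_mul, pow_two, hqq, one_pow, one_mul, map_pow]

/-- no element of order 11 commutes with `gz` -/
theorem comm_gz_eleven {w : H0} (hc : gz * w = w * gz) (hw : orderOf w = 11) : False := by
  obtain ⟨s, rfl⟩ := comm_gz (w := w) hc.symm (n := 5) (by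
    have h := pow_orderOf_eq_one w
    rwa [hw] at h)
  have h1 : orderOf s = 11 := by rw [← hw, orderOf_injective _ iota_inj]
  have h2 : orderOf s ∣ Nat.card A8 := orderOf_dvd_natCard s
  have h3 : Nat.card A8 = 20160 := by
    change Nat.card ↥(alternatingGroup (Fin 8)) = _
    rw [nat_card_alternatingGroup, Nat.card_eq_fintype_card, Fintype.card_fin]
    rfl
  rw [h1, h3] at h2
  norm_num at h2

end Cfsg.Agent.H287.OutHN
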