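import Cfsg.Agent.H287.SylFix
import Cfsg.Agent.OddHalf.UT5.KBasic
import Cfsg.Agent.OddHalf.UT5.Fam
import Cfsg.Agent.KFacts.He.Hyp
import Cfsg.Agent.S1695
import Cfsg.Agent.NotCT.Orders

/-!
# `He`: the order of the centralizer of an outer involution is not divisible by `2^7` (helper287)

`no_fix` : an automorphism of `CC = 2^{1+6} L₃(2)` exchanging the two elementary abelian normal subgroups `R1`, `R2` of
order 16 centralizes no subgroup of order `2^7`.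
-/

set_option autoImplicit false

namespace Cfsg.Agent.H287.OutHe

open Subgroup Cfsg
open Cfsg.Agent.SporadicRecognition.HeldModel Cfsg.Agent.KFacts.TwoSix.Base
  Cfsg.Agent.KFacts.TwoSix.Facts Cfsg.Agent.OddHalf.D8 Cfsg.Agent.KFacts.TwoSix.Aut
  Cfsg.Agent.Held.AffineIso

universe u

/-- the subgroup generated by the centre -/
def ZZ : Subgroup ↥CC := zpowers zC

theorem mem_ZZ {x : ↥CC} : x ∈ ZZ ↔ x = 1 ∨ x = zC := by
  constructor
  · intro h
    obtain ⟨k, rfl⟩ := mem_zpowers_iff.1 h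
    rcases Int.even_or_odd' k with ⟨m, rfl | rfl⟩
    · left
      rw [zpow_mul, show (zC : ↥CC) ^ (2 : ℤ) = 1 by
        rw [show (2 : ℤ) = ((2 : ℕ) : ℤ) by norm_num, zpow_natCast, pow_two, OddHalf.UT5.KBasic.sq_zC], one_zpow]
    · right
      rw [zpow_add, zpow_mul, show (zC : ↥CC) ^ (2 : ℤ) = 1 by
        rw [show (2 : ℤ) = ((2 : ℕ) : ℤ) by norm_num, zpow_natCast, pow_two, OddHalf.UT5.KBasic.sq_zC], one_zpow,
        one_mul, zpow_one]
  · rintro (rfl | rfl)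
    · exact one_mem _
    · exact mem_zpowers _

theorem comm_zC (x : ↥CC) : x * zC = zC * x := Subtype.ext (zz_comm x.2)

instance instNormalZZ : ZZ.Normal where
  conj_mem n hn g := by
    rcases mem_ZZ.1 hn with rfl | rfl
    · rw [mul_one, mul_inv_cancel]
      exact one_mem _
    · rw [comm_zC, mul_inv_cancel_right]
      exact mem_zpowers _

/-- commutators with `QQ` lie in the centre, for the elements of `R1`, `R2` -/
theorem card_ZZ : Nat.card ↥ZZ ≤ 2 := by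
  have h : (ZZ : Set ↥CC) ⊆ {1, zC} := by
    intro x hx
    rcases mem_ZZ.1 hx with rfl | rfl
    · exact Set.mem_insert _ _
    · exact Set.mem_insert_of_mem _ rfl
  have h1 := Set.ncard_le_ncard h (Set.toFinite _)
  have h2 : ({1, zC} : Set ↥CC).ncard ≤ 2 := Set.ncard_insert_le _ _ |>.trans (by rw [Set.ncard_singleton])
  exact h1.trans h2

/-- the subgroups of `CC` -/
abbrev Q : Subgroup ↥CC := QQ.subgroupOf CC
/-- the subgroups of `CC` -/
abbrev A1 : Subgroup ↥CC := R1.subgroupOf CC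
/-- the subgroups of `CC` -/
abbrev A2 : Subgroup ↥CC := R2.subgroupOf CC

theorem card_Q : Nat.card ↥Q = 128 := by
  rw [← card_QQ]
  exact Nat.card_congr (subgroupOfEquivOfLe QQ_le_CC).toEquiv

theorem card_A2 : Nat.card ↥A2 = 16 := by
  rw [← card_R2]
  exact Nat.card_congr (subgroupOfEquivOfLe (R2_le_QQ.trans QQ_le_CC)).toEquiv

theorem A2_le_Q : A2 ≤ Q := fun _ hx => R2_le_QQ hx
theorem A1_le_Q : A1 ≤ Q := fun _ hx => R1_le_QQ hx

instance instNormalQ : Q.Normal where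
  conj_mem _ hn g := norm_QQ g.2 hn

variable {b : CC ≃* CC}

theorem inter_ZZ {x : ↥CC} (h1 : x ∈ A1) (h2 : x ∈ A2) : x ∈ ZZ := by
  rw [mem_ZZ]
  rcases inter h1 h2 with h | h
  · exact Or.inl (Subtype.ext h)
  · exact Or.inr (Subtype.ext h)

/-- the elements of `QQ` fixed by `b` -/
theorem card_inf (h2 : ∀ e ∈ A2, b e ∈ A1) (P : Subgroup ↥CC) (hP : ∀ x ∈ P, b x = x) :
    Nat.card ↥(P ⊓ Q) ≤ 16 := by
  have e1 : A2.relIndex Q = 8 := by
    have h := relIndex_mul_relIndex ⊥ A2 Q bot_le A2_le_Q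
    rw [relIndex_bot_left, relIndex_bot_left, card_Q, card_A2] at h
    omega
  have e2 : A2.relIndex (P ⊓ Q) ≤ 8 := by
    rw [← e1]
    exact relIndex_le_of_le_right inf_le_right (by rw [e1]; norm_num)
  have e3 : A2 ⊓ (P ⊓ Q) ≤ ZZ := by
    rintro x ⟨hx, hxP, -⟩
    have h := h2 x hx
    rw [hP x hxP] at h
    exact inter_ZZ h hx
  have e4 : Nat.card ↥(A2 ⊓ (P ⊓ Q)) ≤ 2 := (Nat.card_le_card_of_injective _ (inclusion_injective e3)).trans card_ZZ
  have e5 := relIndex_mul_relIndex ⊥ (A2 ⊓ (P ⊓ Q)) (P ⊓ Q) bot_le inf_le_right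
  rw [relIndex_bot_left, relIndex_bot_left, inf_relIndex_right] at e5
  rw [← e5]
  calc _ ≤ 2 * 8 := Nat.mul_le_mul e4 e2
    _ = 16 := by norm_num

/-! ### The quotient by the centre -/

/-- the quotient by the centre -/
abbrev π : ↥CC →* ↥CC ⧸ ZZ := QuotientGroup.mk' ZZ

theorem π_eq_one {x : ↥CC} : π x = 1 ↔ x ∈ ZZ := QuotientGroup.eq_one_iff x

theorem π_comm_of {x y : ↥CC} (h : x * y * x⁻¹ * y⁻¹ ∈ ZZ) : Commute (π x) (π y) := by
  rw [← π_eq_one, map_mul, map_mul, map_mul, map_inv, map_inv, mul_inv_eq_one, mul_inv_eq_iff_eq_mul] at h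
  exact h

theorem of_π_comm {x y : ↥CC} (h : Commute (π x) (π y)) : x * y * x⁻¹ * y⁻¹ ∈ ZZ := by
  rw [← π_eq_one, map_mul, map_mul, map_mul, map_inv, map_inv, mul_inv_eq_one, mul_inv_eq_iff_eq_mul]
  exact h

theorem b_ZZ {x : ↥CC} (hx : x ∈ ZZ) : b x ∈ ZZ := by
  rcases mem_ZZ.1 hx with rfl | rfl
  · rw [map_one]; exact one_mem _
  · rw [aut_zC]; exact mem_zpowers _

theorem of_b_ZZ {x : ↥CC} (hx : b x ∈ ZZ) : x ∈ ZZ := by
  have h := b_ZZ (b := b.symm) hx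
  rwa [b.symm_apply_apply] at h

theorem b_comm {x y : ↥CC} (h : Commute (π x) (π y)) : Commute (π (b x)) (π (b y)) := by
  have h1 := b_ZZ (b := b) (of_π_comm h)
  rw [map_mul, map_mul, map_mul, map_inv, map_inv] at h1
  exact π_comm_of h1

theorem comm_A (x y : ↥CC) (hx : x ∈ A1) (hy : y ∈ A2) : Commute (π x) (π y) := by
  apply π_comm_of
  apply inter_ZZ
  · have h1 : ((y * x⁻¹ * y⁻¹ : ↥CC) : L5) ∈ R1 := norm_R1 y.2 (inv_mem hx)
    have h2 : x * y * x⁻¹ * y⁻¹ = x * (y * x⁻¹ * y⁻¹) := by group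
    rw [h2]
    exact mul_mem hx h1
  · have h1 : ((x * y * x⁻¹ : ↥CC) : L5) ∈ R2 := norm_R2 x.2 hy
    exact mul_mem (S := Subgroup ↥CC) (s := A2) h1 (inv_mem hy)

theorem comm_Q {x y : ↥CC} (hx : x ∈ Q) (hy : y ∈ Q) : Commute (π x) (π y) := by
  obtain ⟨a, ha, c, hc, h1⟩ := exists_mul' hx
  obtain ⟨a', ha', c', hc', h2⟩ := exists_mul' hy
  have e1 : x = ⟨a, QQ_le_CC (R1_le_QQ ha)⟩ * ⟨c, QQ_le_CC (R2_le_QQ hc)⟩ := Subtype.ext h1
  have e2 : y = ⟨a', QQ_le_CC (R1_le_QQ ha')⟩ * ⟨c', QQ_le_CC (R2_le_QQ hc')⟩ := Subtype.ext h2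
  rw [e1, e2, map_mul, map_mul]
  have k1 : ∀ (u v : L5) (hu : u ∈ R1) (hv : v ∈ R1), Commute (π ⟨u, QQ_le_CC (R1_le_QQ hu)⟩)
      (π ⟨v, QQ_le_CC (R1_le_QQ hv)⟩) := by
    intro u v hu hv
    have h3 : (⟨u, QQ_le_CC (R1_le_QQ hu)⟩ : ↥CC) * ⟨v, QQ_le_CC (R1_le_QQ hv)⟩ =
      ⟨v, QQ_le_CC (R1_le_QQ hv)⟩ * ⟨u, QQ_le_CC (R1_le_QQ hu)⟩ := Subtype.ext (comm_R1 hu hv)
    have h4 := congrArg π h3
    rwa [map_mul, map_mul] at h4
  have k2 : ∀ (u v : L5) (hu : u ∈ R2) (hv : v ∈ R2), Commute (π ⟨u, QQ_le_CC (R2_le_QQ hu)⟩)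
      (π ⟨v, QQ_le_CC (R2_le_QQ hv)⟩) := by
    intro u v hu hv
    have h3 : (⟨u, QQ_le_CC (R2_le_QQ hu)⟩ : ↥CC) * ⟨v, QQ_le_CC (R2_le_QQ hv)⟩ =
      ⟨v, QQ_le_CC (R2_le_QQ hv)⟩ * ⟨u, QQ_le_CC (R2_le_QQ hu)⟩ := Subtype.ext (comm_R2 hu hv)
    have h4 := congrArg π h3
    rwa [map_mul, map_mul] at h4
  exact ((k1 _ _ ha ha').mul_right (comm_A _ _ ha hc')).mul_left
    ((comm_A _ _ ha' hc).symm.mul_right (k2 _ _ hc hc'))

/-! ### The root elements -/

open Cfsg.Agent.OddHalf.UT5.Model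

theorem cd_mem_ZZ {x : ↥CC} (h : x ∈ ZZ) : cd (x : L5) = Lib.F2Mat.one 5 ∨ cd (x : L5) = zc := by
  rcases mem_ZZ.1 h with rfl | rfl
  · left
    rw [Subgroup.coe_one, cd_one]
  · right
    exact cd_zz

theorem pr_single (i j : Fin 5) : pr [(i, j)] = rt i j := by
  rw [pr_cons, pr_nil, mul_one]

theorem not_mem_ZZ : rt 0 2 ∉ ZZ ∧ rt 0 3 ∉ ZZ ∧ rt 0 2 * rt 0 3 ∉ ZZ := by
  refine ⟨fun h => ?_, fun h => ?_, fun h => ?_⟩
  · have h1 := cd_mem_ZZ h
    rw [cd_rt] at h1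
    revert h1
    decide +kernel
  · have h1 := cd_mem_ZZ h
    rw [cd_rt] at h1
    revert h1
    decide +kernel
  · have h1 := cd_mem_ZZ h
    rw [Subgroup.coe_mul, cd_mul, cd_rt, cd_rt] at h1
    revert h1
    decide +kernel

theorem pr_comm {l m : List (Fin 5 × Fin 5)} (h : Commute (π (pr l)) (π (pr m))) :
    cpr (l ++ m) = cpr (m ++ l) ∨ cpr (l ++ m) = cpr ((0, 4) :: (m ++ l)) := by
  have h1 := of_π_comm h
  rcases mem_ZZ.1 h1 with h2 | h2
  · left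
    rw [mul_inv_eq_one, mul_inv_eq_iff_eq_mul] at h2
    rw [← cd_pr, ← cd_pr, pr_append, pr_append, h2]
  · right
    rw [mul_inv_eq_iff_eq_mul, mul_inv_eq_iff_eq_mul] at h2
    rw [← cd_pr, ← cd_pr, pr_append, pr_cons, pr_append, h2, rt_04, mul_assoc]

/-- the words -/
def subs : List (List (Fin 5 × Fin 5)) := [(3, 4), (2, 4), (1, 4), (0, 4)].sublists'

theorem rC_single (j : Fin 4) : rC (Pi.single j 1) = rt 0 j.succ := by
  have h0 : (0 : Fin 5) ≠ j.succ := (Fin.succ_ne_zero j).symm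
  have h1 : inCC (Lib.F2Mat.one 5 + 2 ^ (5 * ((0 : Fin 5) : ℕ) + j.succ)) = true := by
    revert j
    decide +kernel
  apply Subtype.ext
  rw [rt_val 0 j.succ h0 h1]
  apply Subtype.ext
  change (ro (Pi.single j 1) : Matrix (Fin 5) (Fin 5) (ZMod 2)) = (x 0 j.succ h0 : Matrix (Fin 5) (Fin 5) (ZMod 2))
  rw [coe_ro, coe_x]
  ext i k
  rw [transvection_apply']
  refine Fin.cases ?_ (fun i => ?_) i
  · refine Fin.cases ?_ (fun k => ?_) k
    · rw [blk_zero_zero, if_pos rfl, if_neg, add_zero]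
      rintro ⟨-, h⟩
      exact Fin.succ_ne_zero j h
    · rw [blk_zero_succ, if_neg (Fin.succ_ne_zero k).symm, zero_add, Pi.single_apply]
      by_cases hk : k = j
      · rw [if_pos hk, if_pos ⟨rfl, by rw [hk]⟩]
      · rw [if_neg hk, if_neg]
        rintro ⟨-, h⟩
        exact hk (Fin.succ_injective _ h).symm
  · have h2 : ¬ ((0 : Fin 5) = i.succ ∧ j.succ = k) := fun h => Fin.succ_ne_zero i h.1.symm
    rw [if_neg h2, add_zero]
    refine Fin.cases ?_ (fun k => ?_) k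
    · rw [blk_succ_zero, if_neg (Fin.succ_ne_zero i)]
    · rw [blk_succ_succ, Matrix.one_apply]
      simp only [Fin.succ_inj]

theorem exists_pr {v : ↥CC} (hv : v ∈ A2) : ∃ l ∈ subs, v = pr l := by
  obtain ⟨f, hf⟩ := mem_R1_low'.1 (OddHalf.UT5.Fam.tauC_R2 v hv)
  have h1 : tauC v = rC f := Subtype.ext hf
  have h2 : v = tauC (rC f) := by rw [← h1, tauC_tauC]
  have h3 : f = f 0 • (Pi.single 0 1 : F4) + (f 1 • (Pi.single 1 1 : F4) + (f 2 • (Pi.single 2 1 : F4) +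
      f 3 • (Pi.single 3 1 : F4))) := by
    funext i
    fin_cases i <;> simp
  have h4 : ∀ (c : ZMod 2) (j : Fin 4), tauC (rC (c • (Pi.single j 1 : F4))) = pr (if c = 0 then [] else [(j.succ.rev, 4)]) := by
    intro c j
    rcases zmod2_cases c with rfl | rfl
    · rw [zero_smul, if_pos rfl, pr_nil]
      have : rC 0 = 1 := Subtype.ext ro_zero
      rw [this, map_one]
    · rw [one_smul, if_neg (by decide), pr_single, rC_single, tauC_rt]
      rfl
  have h5 : v = pr ((if f 0 = 0 then [] else [((0 : Fin 4).succ.rev, 4)]) ++ ((if f 1 = 0 then [] else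
      [((1 : Fin 4).succ.rev, 4)]) ++ ((if f 2 = 0 then [] else [((2 : Fin 4).succ.rev, 4)]) ++
        (if f 3 = 0 then [] else [((3 : Fin 4).succ.rev, 4)])))) := by
    rw [pr_append, pr_append, pr_append, ← h4, ← h4, ← h4, ← h4, ← map_mul, ← map_mul, ← map_mul, ← rC_add, ← rC_add,
      ← rC_add, ← h3]
    exact h2
  refine ⟨_, ?_, h5⟩
  clear h5 h2 h1 hf h3
  generalize f 0 = a
  generalize f 1 = b
  generalize f 2 = c
  generalize f 3 = d
  revert a b c d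
  decide +kernel

/-- the elements of `R2` commuting with `x₁₃` and `x₁₂` modulo the centre -/
theorem cases_A2 {v : ↥CC} (hv : v ∈ A2) (h1 : Commute (π (rt 1 3)) (π v)) (h2 : Commute (π (rt 1 2)) (π v)) :
    π v = 1 ∨ π v = π (rt 1 4) := by
  obtain ⟨l, hl, rfl⟩ := exists_pr hv
  rw [← pr_single] at h1 h2
  have h3 := pr_comm h1
  have h4 := pr_comm h2
  have h5 : l = [] ∨ l = [(0, 4)] ∨ l = [(1, 4)] ∨ l = [(1, 4), (0, 4)] := by
    clear h1 h2 hv
    revert l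
    decide +kernel
  rcases h5 with rfl | rfl | rfl | rfl
  · left
    rw [pr_nil, map_one]
  · left
    rw [pr_single, rt_04, π_eq_one]
    exact mem_zpowers _
  · right
    rw [pr_single]
  · right
    rw [pr_cons, pr_single, rt_04, map_mul, π_eq_one.2 (mem_zpowers zC), mul_one]

/-! ### The main lemma -/

theorem norm_A1 {g x : ↥CC} (hx : x ∈ A1) : g * x * g⁻¹ ∈ A1 := norm_R1 g.2 hx
theorem norm_A2 {g x : ↥CC} (hx : x ∈ A2) : g * x * g⁻¹ ∈ A2 := norm_R2 g.2 hx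

theorem rt_A1 {j : Fin 5} (h : rt 0 j ∈ A1) (d : ↥CC) : d * rt 0 j * d⁻¹ ∈ A1 := norm_A1 h

/-- **no subgroup of order `2^7` is centralized** -/
theorem no_fix (h1 : ∀ e ∈ A1, b e ∈ A2) (h2 : ∀ e ∈ A2, b e ∈ A1) (P : Subgroup ↥CC) (hP : ∀ x ∈ P, b x = x)
    (hcard : Nat.card ↥P = 2 ^ 7) : False := by
  have hf : Fact (Nat.Prime 2) := ⟨Nat.prime_two⟩
  -- `P Q` is a Sylow 2-subgroup
  have hPp : IsPGroup 2 ↥P := IsPGroup.of_card hcard
  have hQp : IsPGroup 2 ↥Q := IsPGroup.of_card (n := 7) (by rw [card_Q]; norm_num)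
  have hPQ : IsPGroup 2 ↥(P ⊔ Q) := hPp.to_sup_of_normal_right hQp
  obtain ⟨S, hS⟩ := hPQ.exists_le_sylow
  have e1 := relIndex_mul_relIndex ⊥ (Q ⊓ P) P bot_le inf_le_right
  rw [relIndex_bot_left, relIndex_bot_left, inf_relIndex_right, hcard, inf_comm] at e1
  have e2 := card_inf h2 P hP
  have e3 : 8 ≤ Q.relIndex P := by
    by_contra hlt
    have : Nat.card ↥(P ⊓ Q) * Q.relIndex P ≤ 16 * 7 := Nat.mul_le_mul e2 (by omega)
    omega
  have e4 := relIndex_mul_relIndex ⊥ Q (P ⊔ Q) bot_le le_sup_right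
  rw [relIndex_bot_left, relIndex_bot_left, relIndex_sup_right, card_Q] at e4
  obtain ⟨T, hT⟩ := exists_sylow_CC
  have e5 : Nat.card ↥(S : Subgroup ↥CC) = 1024 := by
    rw [← card_T0C, ← hT]
    rw [Sylow.card_eq_multiplicity, Sylow.card_eq_multiplicity]
  have e6 : P ⊔ Q = S := by
    apply eq_of_le_of_card_ge hS
    rw [e5, ← e4]
    omega
  obtain ⟨d, hd⟩ := MulAction.exists_smul_eq ↥CC T S
  have hmem : ∀ t ∈ T0C, d * t * d⁻¹ ∈ P ⊔ Q := by
    intro t ht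
    rw [e6, ← hd]
    rw [← hT] at ht
    exact ⟨t, ht, rfl⟩
  -- the elements of `A1` commuting with `t` modulo the centre
  have key : ∀ t ∈ T0C, ∀ r ∈ A1, t * r = r * t → Commute (π t) (π (d⁻¹ * b (d * r * d⁻¹) * d)) := by
    intro t ht r hr htr
    obtain ⟨p, hp, q, hq, hpq⟩ := mem_sup_of_normal_right.1 (hmem t ht)
    have hr' : d * r * d⁻¹ ∈ A1 := norm_A1 hr
    have k1 : Commute (π (d * t * d⁻¹)) (π (d * r * d⁻¹)) := by
      have h3 : (d * t * d⁻¹) * (d * r * d⁻¹) = (d * r * d⁻¹) * (d * t * d⁻¹) := by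
        calc (d * t * d⁻¹) * (d * r * d⁻¹) = d * (t * r) * d⁻¹ := by group
          _ = d * (r * t) * d⁻¹ := by rw [htr]
          _ = _ := by group
      have h4 := congrArg π h3
      rwa [map_mul, map_mul] at h4
    have k2 : Commute (π q) (π (d * r * d⁻¹)) := comm_Q hq (A1_le_Q hr')
    have k3 : Commute (π p) (π (d * r * d⁻¹)) := by
      have h3 : π p = π (d * t * d⁻¹) * (π q)⁻¹ := by
        rw [← hpq, map_mul, mul_inv_cancel_right]
      rw [h3]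
      exact k1.mul_left k2.inv_left
    have k4 : Commute (π p) (π (b (d * r * d⁻¹))) := by
      have h3 := b_comm (b := b) k3
      rwa [hP p hp] at h3
    have k5 : Commute (π q) (π (b (d * r * d⁻¹))) := comm_Q hq (A2_le_Q (h1 _ hr'))
    have k6 : Commute (π (d * t * d⁻¹)) (π (b (d * r * d⁻¹))) := by
      rw [← hpq, map_mul]
      exact k4.mul_left k5
    have k7 := of_π_comm k6
    apply π_comm_of
    have h3 : t * (d⁻¹ * b (d * r * d⁻¹) * d) * t⁻¹ * (d⁻¹ * b (d * r * d⁻¹) * d)⁻¹ =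
        d⁻¹ * ((d * t * d⁻¹) * b (d * r * d⁻¹) * (d * t * d⁻¹)⁻¹ * (b (d * r * d⁻¹))⁻¹) * d⁻¹⁻¹ := by group
    rw [h3]
    exact Normal.conj_mem inferInstance _ k7 _
  have hA : ∀ j : Fin 5, j ≠ 0 → rt 0 j ∈ A1 := by
    intro j hj
    obtain ⟨i, rfl⟩ := Fin.exists_succ_eq.2 hj
    rw [← rC_single]
    exact ro_mem_R1 _
  have ht13 : rt 1 3 ∈ T0C := by
    change (rt 1 3 : L5) ∈ T0
    rw [rt_val 1 3 (by decide) (by decide +kernel)]
    exact x_mem_T0 (by decide)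
  have ht12 : rt 1 2 ∈ T0C := by
    change (rt 1 2 : L5) ∈ T0
    rw [rt_val 1 2 (by decide) (by decide +kernel)]
    exact x_mem_T0 (by decide)
  have hval : ∀ j : Fin 5, j = 2 ∨ j = 3 → π (d⁻¹ * b (d * rt 0 j * d⁻¹) * d) = 1 ∨
      π (d⁻¹ * b (d * rt 0 j * d⁻¹) * d) = π (rt 1 4) := by
    intro j hj
    have hj0 : j ≠ 0 := by rcases hj with rfl | rfl <;> decide
    have hA2 : d⁻¹ * b (d * rt 0 j * d⁻¹) * d ∈ A2 := by
      have := norm_A2 (g := d⁻¹) (h1 _ (norm_A1 (g := d) (hA j hj0)))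
      rwa [inv_inv] at this
    refine cases_A2 hA2 (key _ ht13 _ (hA j hj0) ?_) (key _ ht12 _ (hA j hj0) ?_)
    · apply rt_comm
      · rcases hj with rfl | rfl <;> decide
      · rcases hj with rfl | rfl <;> decide
    · apply rt_comm
      · rcases hj with rfl | rfl <;> decide
      · rcases hj with rfl | rfl <;> decide
  have hback : ∀ r : ↥CC, π (d⁻¹ * b (d * r * d⁻¹) * d) = 1 → r ∈ ZZ := by
    intro r hr
    rw [π_eq_one] at hr
    have h3 : b (d * r * d⁻¹) ∈ ZZ := by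
      have h4 := Normal.conj_mem (H := ZZ) inferInstance _ hr d
      have h5 : d * (d⁻¹ * b (d * r * d⁻¹) * d) * d⁻¹ = b (d * r * d⁻¹) := by group
      rwa [h5] at h4
    have h4 := Normal.conj_mem (H := ZZ) inferInstance _ (of_b_ZZ h3) d⁻¹
    have h5 : d⁻¹ * (d * r * d⁻¹) * d⁻¹⁻¹ = r := by group
    rwa [h5] at h4
  obtain ⟨n2, n3, n23⟩ := not_mem_ZZ
  have v2 : π (d⁻¹ * b (d * rt 0 2 * d⁻¹) * d) = π (rt 1 4) :=
    (hval 2 (Or.inl rfl)).resolve_left fun h => n2 (hback _ h)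
  have v3 : π (d⁻¹ * b (d * rt 0 3 * d⁻¹) * d) = π (rt 1 4) :=
    (hval 3 (Or.inr rfl)).resolve_left fun h => n3 (hback _ h)
  apply n23
  apply hback
  have h3 : d⁻¹ * b (d * (rt 0 2 * rt 0 3) * d⁻¹) * d =
      (d⁻¹ * b (d * rt 0 2 * d⁻¹) * d) * (d⁻¹ * b (d * rt 0 3 * d⁻¹) * d) := by
    have h4 : d * (rt 0 2 * rt 0 3) * d⁻¹ = (d * rt 0 2 * d⁻¹) * (d * rt 0 3 * d⁻¹) := by group
    rw [h4, map_mul]
    group
  rw [h3, map_mul, v2, v3, ← map_mul, rt_sq, map_one]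

/-- **the centralizer of an outer involution** -/
theorem not_dvd {G : Type u} [Group G] [Finite G] [IsSimpleGroup G] {z : G} {ι : CC →* G} (h : Hyp z ι) {φ : MulAut G}
    (hφ : φ * φ = 1) (hout : ¬ ∃ g, φ = MulAut.conj g) : ¬ 2 ^ 7 ∣ Nat.card ↥(fixedSubgroup φ) := by
  have hf : Fact (Nat.Prime 2) := ⟨Nat.prime_two⟩
  intro hd
  obtain ⟨S, hS⟩ := exists_sylow h
  obtain ⟨g, h1, h2⟩ := exists_conj hφ S
  have h3 := h2 7 hd
  set ψ := MulAut.conj g * φ * (MulAut.conj g)⁻¹ with hψ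
  have hψψ : ∀ x, ψ (ψ x) = x := by
    intro x
    have h4 : ψ * ψ = 1 := by
      have : ψ * ψ = MulAut.conj g * (φ * φ) * (MulAut.conj g)⁻¹ := by rw [hψ]; group
      rw [this, hφ, mul_one, mul_inv_cancel]
    exact congrArg (fun f : MulAut G => f x) h4
  have hmemS : ∀ x, x ∈ S ↔ ∃ u : ↥CC, (u : L5) ∈ T0 ∧ ι u = x := by
    intro x
    change x ∈ (S : Subgroup G) ↔ _
    rw [hS]
    rfl
  have hzS : z ∈ S := (hmemS z).2 ⟨zC, x_mem_T0 (by decide), h.map_zz⟩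
  -- `ψ` fixes `z`
  have hψz : ψ z = z := by
    have h4 : ψ z = 1 ∨ ψ z = z := by
      refine OddHalf.UT5.KBasic.center_T0 h ?_ ?_
      · obtain ⟨u, -, hu⟩ := (hmemS _).1 (h1 z hzS)
        rw [← hu]
        exact OddHalf.UT5.KBasic.comm_z h u
      · intro u hu
        have h5 : ψ (ι u) ∈ S := h1 _ ((hmemS _).2 ⟨u, hu, rfl⟩)
        obtain ⟨v, -, hv⟩ := (hmemS _).1 h5
        have h6 : ι u = ψ (ι v) := by rw [hv, hψψ]
        rw [h6, ← map_mul, ← map_mul, OddHalf.UT5.KBasic.comm_z h v]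
    rcases h4 with h4 | h4
    · exfalso
      have h5 : z = 1 := by
        have := congrArg ψ h4
        rwa [hψψ, map_one] at this
      exact Held.Pattern.z_ne_one h h5
    · exact h4
  obtain ⟨b, hb⟩ := OddHalf.UT5.KBasic.exists_b h ψ hψz
  rcases KFacts.TwoSix.AutCC.aut b with ⟨c, hc | hc⟩
  · apply hout
    obtain ⟨k, hk⟩ := OddHalf.UT5.KBasic.inner_of h (α := ψ) (c := c)
      (fun u => by rw [← hb, hc, map_mul, map_mul, map_inv])
    refine ⟨g⁻¹ * k * g, ?_⟩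
    have h4 : φ = (MulAut.conj g)⁻¹ * ψ * MulAut.conj g := by rw [hψ]; group
    rw [h4, ← hk, map_mul, map_mul, map_inv]
  · obtain ⟨P, hP1, hP2⟩ : ∃ P : Subgroup ↥((S : Subgroup G) ⊓ fixedSubgroup ψ), Nat.card ↥P = 2 ^ 7 ∧ True := by
      obtain ⟨P, hP⟩ := Sylow.exists_subgroup_card_pow_prime 2 h3
      exact ⟨P, hP, trivial⟩
    let P1 : Subgroup G := P.map (Subgroup.subtype _)
    have hP1card : Nat.card ↥P1 = 2 ^ 7 := by
      rw [← hP1]
      exact (Nat.card_congr (P.equivMapOfInjective _ (subtype_injective _)).toEquiv).symm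
    have hle : P1 ≤ ι.range := by
      rintro _ ⟨x, -, rfl⟩
      obtain ⟨u, -, hu⟩ := (hmemS _).1 x.2.1
      exact ⟨u, hu⟩
    have hcomap : Nat.card ↥(P1.comap ι) = 2 ^ 7 := by
      have h4 : (P1.comap ι).map ι = P1 := map_comap_eq_self hle
      rw [← hP1card]
      conv_rhs => rw [← h4]
      exact Nat.card_congr ((P1.comap ι).equivMapOfInjective ι h.inj).toEquiv
    refine no_fix (b := b) ?_ ?_ (P1.comap ι) ?_ hcomap
    · intro e he
      rw [hc]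
      exact norm_A2 (OddHalf.UT5.Fam.tauC_R1 e he)
    · intro e he
      rw [hc]
      exact norm_A1 (OddHalf.UT5.Fam.tauC_R2 e he)
    · intro x hx
      apply h.inj
      rw [hb]
      obtain ⟨y, -, hy⟩ := hx
      rw [← hy]
      exact y.2.2

/-- **`2^7` does not divide the orders of the components** -/
theorem outCard {X : Type u} [Group X] (h : Spor.IsoHe X) :
    OutCard (fun n _ => n ∣ 4030387200 ∧ ¬ 2 ^ 7 ∣ n) X := by
  obtain ⟨f⟩ := h
  refine OutCard.of_equiv f.symm fun x hx hout K _ => ?_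
  have hs : IsSimpleGroup Spor.He := Cfsg.Agent.S1695.result.1
  have hcard : Nat.card Spor.He = 4030387200 := NotCT.Orders.he ⟨MulEquiv.refl _⟩
  have : Finite Spor.He := Nat.finite_of_card_ne_zero (by rw [hcard]; norm_num)
  obtain ⟨z, ι, hH⟩ := Cfsg.Agent.KFacts.He.Hyp.hyp_he
  have h1 : Nat.card ↥K ∣ Nat.card ↥(fixedSubgroup x) := card_subgroup_dvd_card K
  refine ⟨(h1.trans (card_subgroup_dvd_card _)).trans (by rw [hcard]), fun h7 => ?_⟩
  exact not_dvd hH (by rw [← pow_two, ← hx, pow_orderOf_eq_one]) hout (h7.trans h1)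

end Cfsg.Agent.H287.OutHe
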