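import Cfsg.Agent.H287.InnTwo
import Cfsg.Agent.KFacts.ON.Sheet
import Cfsg.Agent.KFacts.ON.OneClass

/-!
# O'Nan group: the components of the centralizers of involutions (helper287)
-/

set_option autoImplicit false

namespace Cfsg.Agent.H287.InnON

open Subgroup Cfsg
open Cfsg.Agent.CTwoTab
open Cfsg.Spor (ON)
open Cfsg.Agent.SporadicB.ON45Word (on)
open Cfsg.Agent.KFacts.MulSpor.ON (w)
open Cfsg.Agent.KFacts.ON.Cent (hON)
open Cfsg.Agent.KFacts.ON.Words Cfsg.Agent.KFacts.ON.Struct Cfsg.Agent.KFacts.ON.Qs Cfsg.Agent.KFacts.ON.Estar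
open Cfsg.Agent.KFacts.ON.OneClass Cfsg.Agent.KFacts.ON

universe u

theorem orderOf_v : orderOf v = 4 := by
  have h1 : v ^ 2 = on .f := by rw [pow_two, vv]
  have h2 : v ^ 2 ^ (1 + 1) = 1 := by
    rw [show 2 ^ (1 + 1) = 2 * 2 by norm_num, pow_mul, h1, pow_two]
    exact ff
  have h3 : ¬ v ^ 2 ^ 1 = 1 := by
    rw [pow_one, h1]
    exact f_ne_one
  have := orderOf_eq_prime_pow h3 h2
  simpa using this

theorem card_center : Nat.card ↥(center ↥J) = 4 := by
  have h1 : (center ↥J).map J.subtype = zpowers v := by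
    ext x
    constructor
    · rintro ⟨y, hy, rfl⟩
      exact mem_center.1 hy
    · intro hx
      have hxJ : x ∈ J := (zpowers_le.2 vJ) hx
      exact ⟨⟨x, hxJ⟩, mem_center.2 hx, rfl⟩
  rw [Nat.card_congr ((center ↥J).equivMapOfInjective J.subtype J.subtype_injective).toEquiv, h1, Nat.card_zpowers,
    orderOf_v]

theorem card_quo : Nat.card (↥J ⧸ center ↥J) = 20160 := by
  have h1 := card_eq_card_quotient_mul_card_subgroup (center ↥J)
  rw [card_J, card_center] at h1
  omega

theorem compCard_model : CompCard (fun n m => n = 80640 ∧ m = 20160) ON := by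
  refine CompCard.mk_of_classes (fun s => s = on .f) (fun a ha => ?_) ?_
  · have h1 : a * a = 1 := by rw [← pow_two, ← ha, pow_orderOf_eq_one]
    have h2 : a ≠ 1 := by
      rintro rfl
      rw [orderOf_one] at ha
      omega
    obtain ⟨g, hg⟩ := isConj_iff.1 (one_class h1 h2).symm
    exact ⟨g, _, rfl, hg.symm⟩
  · have : Finite ON := Cfsg.Agent.KFacts.ON.Cent.finite_ON
    rintro s rfl K hK
    have hle : J ≤ centralizer ({on .f} : Set ON) := by
      intro x hx
      rw [mem_centralizer_singleton_iff]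
      exact Struct.mem_K0.1 (J_le hx)
    have h1 : K = J := comp_eq qs hle (fun P hP hperf => perfect_le_of_sq (fun g hg => ?_) P hP hperf) hK
    · subst h1
      exact ⟨card_J, card_quo⟩
    · have h2 := mul_self_mem_of_index_two index_J (⟨g, Struct.mem_K0.2 (mem_centralizer_singleton_iff.1 hg)⟩ : ↥Cfsg.Agent.ONType.TupK.K0)
      exact mem_subgroupOf.1 h2

theorem compCard {X : Type u} [Group X] (h : Spor.IsoON X) : CompCard (fun n m => n = 80640 ∧ m = 20160) X := by
  obtain ⟨f⟩ := h
  exact CompCard.of_equiv f.symm compCard_model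

end Cfsg.Agent.H287.InnON
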