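import Cfsg.Agent.UGT.C.BalONTab

/-!
# O'Nan group: the centralizer of an outer involution has order not divisible by 16 (helper287)

Kernel check on the table of a Sylow 2-subgroup `T` of order 512 : for each of the 64 elements `u ∈ T` such that
`conj u * β` is an involution (`β` = the outer automorphism leaving `T` invariant), it centralizes 8 elements of `T`.
-/

set_option autoImplicit false
set_option maxRecDepth 100000
set_option Elab.async false

namespace Cfsg.Agent.H287.OutON

open Subgroup Cfsg
open Cfsg.Agent.UGT.C.PcTab Cfsg.Agent.UGT.C.BalONTab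

/-- the values of `be`, packed -/
noncomputable def beN : ℕ := nat_lit 0xd6eb35faed46a755abd2e934fa6d068745a3c964f2191cb65f2995cd66f3199cf67f399dc6e331f8ec4627158bc2e130f86c06070583d8ec367b2daed36fb6dcee377badeef37fbee0f0387c2e2f138fc6e4f2397cae6f339fcefeff3fffefc7e7f5fbfafd3eff6f87c7e5f3f178fc1e1f379fc9e5f57afd1e9f77bfd9edeef73bfdeec767b5dbeaf53afd6e8747a5d38743e190d85c2a13088341e090581c0a0300994ce61319b4de69359d4ee71399f4fe793d96cb25f2e944a6552b92c924f269048645238944e21118b45e29158d46e31198f47e391db158ec161b359ec965b55aed169b75bed96daed72bf5eac566b55baad52af56a8546a553a150e8141a351e8945a552e9149a753e994dbf5fef97dbddeaf378bb5dee975b9dcae370793cde0f17b3dde8f57d3edf0f97f3fdf8fd65b2992c867b399acc61b0982c063b198ac468b41a6d26ab51aed66cb61b6da6eb71bede75ba9d2e877bb9daec71b89c2e073b99cae448a4126924aa512e964ca61369a4ea713e9e55aa952a857ab95aac51a8942a053a994aa458ac166b25aad16eb65cae176ba5eaf17ebe44225148b462351c8f402050483422150c873a1d4ec77389c0e6723e1f4fc7f3c9e0f67a269309e4e24124944b229108e462010484432b958aa542914ca0512f978ba5c2d16cb059369b0de6e341a4d46b32990ce6630184c4630b8582a140904c20110f8783a1c0d06c3019168b05e2e140a4542b128904e261008444231b8d86a34190cc60311f8f87a3c1d0ec70390703c180d0582812080301c0805018080200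

/-- the values of `be` -/
noncomputable def bp (x : ℕ) : ℕ := Nat.land (Nat.shiftRight beN (Nat.mul 9 x)) 511

theorem bp_ok : ∀ x < 512, be x = bp x := by decide +kernel

/-- the involutory `conj u * β` -/
def us : List ℕ := [0, 1, 2, 3, 4, 5, 6, 7, 8, 9, 10, 11, 12, 13, 14, 15, 32, 33, 34, 35, 36, 37, 38, 39, 40, 41, 42, 43, 44, 45, 46, 47, 80, 81, 82, 83, 84, 85, 86, 87, 88, 89, 90, 91, 92, 93, 94, 95, 112, 113, 114, 115, 116, 117, 118, 119, 120, 121, 122, 123, 124, 125, 126, 127]

theorem us_ok : ∀ u < 512, mu u (be u) = 0 → us.contains u = true := by decide +kernel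

/-- number of the `x < n` centralized by `conj u * β` -/
noncomputable def cnt (u : ℕ) : ℕ → ℕ
  | 0 => 0
  | n + 1 => bif Nat.beq (mu u (bp n)) (mu n u) then cnt u n + 1 else cnt u n

theorem cnt_a : (us.take 12).all (fun u => Nat.ble (cnt u 512) 8) = true := by decide +kernel
theorem cnt_b : ((us.drop 12).take 13).all (fun u => Nat.ble (cnt u 512) 8) = true := by decide +kernel
theorem cnt_c : ((us.drop 25).take 13).all (fun u => Nat.ble (cnt u 512) 8) = true := by decide +kernel
theorem cnt_d : ((us.drop 38).take 13).all (fun u => Nat.ble (cnt u 512) 8) = true := by decide +kernel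
theorem cnt_e : (us.drop 51).all (fun u => Nat.ble (cnt u 512) 8) = true := by decide +kernel

theorem us_split : us = us.take 12 ++ ((us.drop 12).take 13 ++ ((us.drop 25).take 13 ++ ((us.drop 38).take 13 ++
    us.drop 51))) := by decide +kernel

theorem cnt_ok : us.all (fun u => Nat.ble (cnt u 512) 8) = true := by
  rw [us_split, List.all_append, List.all_append, List.all_append, List.all_append, cnt_a, cnt_b, cnt_c, cnt_d, cnt_e]
  rfl

end Cfsg.Agent.H287.OutON
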