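import Cfsg.Agent.H287.InnTwo
import Cfsg.Agent.UGT.End.McL
import Cfsg.Agent.TypeM.OuterMcL

/-!
# `McL`: the order of the centralizer of an outer involution is not divisible by 64 (helper287)

`OutCard` for `McL` : `|K|` divides `|McL|` and `64 ∤ |K|`.
-/

set_option autoImplicit false

namespace Cfsg.Agent.H287

open Subgroup Cfsg

universe u

/-- bound of the 2-part from the centralizers of involutions -/
theorem not_two_pow_dvd {H : Type u} [Group H] [Finite H] {k : ℕ} (hk : 1 ≤ k)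
    (h : ∀ u : H, orderOf u = 2 → ¬ 2 ^ k ∣ Nat.card ↥(centralizer ({u} : Set H))) : ¬ 2 ^ k ∣ Nat.card H := by
  intro hd
  have : Fact (Nat.Prime 2) := ⟨Nat.prime_two⟩
  obtain ⟨P⟩ : Nonempty (Sylow 2 H) := inferInstance
  have hP : 2 ^ k ∣ Nat.card ↥(P : Subgroup H) := P.pow_dvd_card_of_pow_dvd_card hd
  have hnt : Nontrivial ↥(P : Subgroup H) := by
    apply Finite.one_lt_card_iff_nontrivial.1
    have h1 : 2 ∣ Nat.card ↥(P : Subgroup H) := (dvd_pow_self 2 (by omega)).trans hP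
    have h2 : 0 < Nat.card ↥(P : Subgroup H) := Nat.card_pos
    obtain ⟨c, hc⟩ := h1
    omega
  have hc : Nontrivial ↥(center ↥(P : Subgroup H)) := P.isPGroup'.center_nontrivial
  have h2 : 2 ∣ Nat.card ↥(center ↥(P : Subgroup H)) := by
    obtain ⟨n, hn⟩ := (P.isPGroup'.to_subgroup (center ↥(P : Subgroup H))).exists_card_eq
    rw [hn]
    have h3 : 1 < Nat.card ↥(center ↥(P : Subgroup H)) := Finite.one_lt_card_iff_nontrivial.2 hc
    rcases n with _ | n
    · rw [hn] at h3
      simp at h3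
    · exact dvd_pow_self 2 (by omega)
  obtain ⟨z, hz⟩ := exists_prime_orderOf_dvd_card' 2 h2
  refine h ((z : ↥(P : Subgroup H)) : H) (by rw [Subgroup.orderOf_coe, Subgroup.orderOf_coe, hz]) ?_
  refine hP.trans (card_dvd_of_le fun y hy => ?_)
  rw [mem_centralizer_singleton_iff]
  exact congrArg Subtype.val (mem_center_iff.1 z.2 ⟨y, hy⟩)


section mcl

open Cfsg.Agent.UGT.End.McLPerm Cfsg.Agent.UGT.End.McLOuter
open Subgroup Equiv Cfsg.Agent.SporRec.TwoAn Cfsg.Agent.TypeM.Two Cfsg.Agent.TypeM.OuterMcL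
open Cfsg.Agent.TypeM.CoverAut Cfsg.Agent.TypeM.FactsAut
open Cfsg.Agent.UGT.End.McLPerm
open Cfsg.Agent.TypeM Cfsg.Agent.TypeM.OuterMcL
open Cfsg.Agent.TypeM.Two (MT)

theorem cycleType_swap {x y : Fin 8} (h : x ≠ y) : (swap x y).cycleType = {2} := by
  rw [(Perm.isCycle_swap h).cycleType, Perm.card_support_swap h]

theorem cycleType_s0 : s0.cycleType = {2, 2, 2} := by
  have h1 : (swap 0 1 : Perm (Fin 8)).cycleType = {2} := cycleType_swap (by decide)
  have h2 : (swap 2 3 : Perm (Fin 8)).cycleType = {2} := cycleType_swap (by decide)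
  have h3 : (swap 4 5 : Perm (Fin 8)).cycleType = {2} := cycleType_swap (by decide)
  have h4 : (swap 0 1 * swap 2 3 : Perm (Fin 8)).cycleType = {2} + {2} := by
    rw [Perm.Disjoint.cycleType_mul (by rw [Perm.disjoint_iff_eq_or_eq]; decide), h1, h2]
  rw [s0, Perm.Disjoint.cycleType_mul (by rw [Perm.disjoint_iff_eq_or_eq]; decide), h4, h3]
  rfl

theorem card_cent_s0 : Nat.card ↥(centralizer ({s0} : Set (Perm (Fin 8)))) = 96 := by
  rw [Perm.nat_card_centralizer, cycleType_s0, Fintype.card_fin]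
  decide

theorem card_cent_even : 2 * Nat.card ↥(centralizer ({s0} : Set (Perm (Fin 8))) ⊓ alternatingGroup (Fin 8) :
    Subgroup (Perm (Fin 8))) = 96 := by
  have h1 : s0 ∈ centralizer ({s0} : Set (Perm (Fin 8))) := mem_centralizer_singleton_iff.2 rfl
  let f : ↥(centralizer ({s0} : Set (Perm (Fin 8)))) →* ℤˣ := Perm.sign.comp (Subgroup.subtype _)
  have hf : Function.Surjective f := by
    intro u
    rcases Int.units_eq_one_or u with rfl | rfl
    · exact ⟨1, map_one f⟩
    · exact ⟨⟨s0, h1⟩, sign_s0⟩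
  have h2 := card_eq_card_quotient_mul_card_subgroup f.ker
  rw [Nat.card_congr (QuotientGroup.quotientKerEquivOfSurjective f hf).toEquiv, card_cent_s0,
    Nat.card_eq_fintype_card (α := ℤˣ)] at h2
  have h3 : Nat.card ↥f.ker = Nat.card ↥(centralizer ({s0} : Set (Perm (Fin 8))) ⊓ alternatingGroup (Fin 8) :
      Subgroup (Perm (Fin 8))) := by
    refine Nat.card_congr ⟨fun x => ⟨((x : ↥(centralizer ({s0} : Set (Perm (Fin 8))))) : Perm (Fin 8)), ?_⟩,
      fun x => ⟨⟨x, x.2.1⟩, ?_⟩, fun _ => rfl, fun _ => rfl⟩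
    · exact ⟨(x : ↥(centralizer ({s0} : Set (Perm (Fin 8))))).2, Perm.mem_alternatingGroup.2 x.2⟩
    · exact Perm.mem_alternatingGroup.1 x.2.2
  rw [h3] at h2
  rw [h2]
  rfl

/-- the centralizer of a fixed involution of an outer involution -/
theorem cent_dvd {G : Type u} [Group G] [Finite G] (L : MT 8 G) {φ : MulAut G} (h : Compat L φ s0)
    (u : ↥(fixedSubgroup φ)) (hu : (u : G) = L.t) :
    Nat.card ↥(centralizer ({u} : Set ↥(fixedSubgroup φ))) ∣ 96 := by
  let D := centralizer ({u} : Set ↥(fixedSubgroup φ))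
  have hD : ∀ x : ↥D, ((x : ↥(fixedSubgroup φ)) : G) ∈ centralizer ({L.t} : Set G) := by
    intro x
    rw [mem_centralizer_singleton_iff, ← hu]
    exact congrArg Subtype.val (mem_centralizer_singleton_iff.1 x.2)
  let j : ↥D →* ↥(centralizer ({L.t} : Set G)) :=
    { toFun := fun x => ⟨((x : ↥(fixedSubgroup φ)) : G), hD x⟩
      map_one' := rfl
      map_mul' := fun _ _ => rfl }
  let f : ↥D →* Perm (Fin 8) := L.K.π.comp j
  have hr : f.range ≤ centralizer ({s0} : Set (Perm (Fin 8))) ⊓ alternatingGroup (Fin 8) := by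
    rintro _ ⟨x, rfl⟩
    refine ⟨mem_centralizer_singleton_iff.2 ?_, L.K.mem_alternating _⟩
    have h1 := h (j x) (j x) (x : ↥(fixedSubgroup φ)).2.symm
    rw [eq_mul_inv_iff_mul_eq] at h1
    exact h1
  have hk : Nat.card ↥f.ker ∣ 2 := by
    have h1 : Nat.card ↥L.K.π.ker = 2 := TwoAlt.card_ker L.K
    have hj : Function.Injective j := fun a b hab =>
      Subtype.ext (Subtype.ext (congrArg (fun y : ↥(centralizer ({L.t} : Set G)) => (y : G)) hab))
    rw [← h1, Nat.card_congr (f.ker.equivMapOfInjective j hj).toEquiv]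
    refine card_dvd_of_le ?_
    rintro _ ⟨x, hx, rfl⟩
    exact hx
  have h2 := card_eq_card_quotient_mul_card_subgroup f.ker
  rw [Nat.card_congr (QuotientGroup.quotientKerEquivRange f).toEquiv] at h2
  rw [show Nat.card ↥(centralizer ({u} : Set ↥(fixedSubgroup φ))) = Nat.card ↥D from rfl, h2]
  have h3 := card_dvd_of_le hr
  have h4 := card_cent_even
  have h5 : Nat.card ↥(centralizer ({s0} : Set (Perm (Fin 8))) ⊓ alternatingGroup (Fin 8) :
    Subgroup (Perm (Fin 8))) = 48 := by omega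
  rw [h5] at h3
  exact Nat.mul_dvd_mul h3 hk

/-- **`64` does not divide the order of the centralizer of an outer involution** -/
theorem not_dvd_fix {G : Type u} [Group G] [Finite G] [IsSimpleGroup G] (L : MT 8 G) (hcard : Nat.card G = 898128000)
    {φ : MulAut G} (hφ : φ * φ = 1) (hout : ¬ ∃ g, φ = MulAut.conj g) : ¬ 64 ∣ Nat.card ↥(fixedSubgroup φ) := by
  have hI : ∀ L' : MT 8 G, EvenInner L' := fun L' =>
    Cfsg.Agent.TypeM.OuterInst.evenInner L' (Or.inl rfl) (gen L' (Or.inl ⟨rfl, hcard⟩))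
  have hin : φ ∉ (MulAut.conj : G →* MulAut G).range := fun ⟨g, hg⟩ => hout ⟨g, hg.symm⟩
  refine not_two_pow_dvd (k := 6) (by norm_num) fun u hu h64 => ?_
  have hu2 : orderOf (u : G) = 2 := by rw [Subgroup.orderOf_coe, hu]
  have huu : (u : G) * u = 1 := by rw [← pow_two, ← hu2, pow_orderOf_eq_one]
  have hu1 : (u : G) ≠ 1 := by
    intro h
    rw [h, orderOf_one] at hu2
    omega
  obtain ⟨L1, hL1⟩ := L.exists_rebase huu hu1
  obtain ⟨L2, hL2, hc⟩ := exists_type L1 (fun L' _ => hI L') hφ hin (by rw [hL1]; exact u.2)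
  have h1 := cent_dvd L2 hc u (by rw [hL2, hL1])
  have h2 := h64.trans h1
  norm_num at h2

theorem outCard_mcl {X : Type u} [Group X] (h : Spor.IsoMcL X) :
    OutCard (fun n _ => n ∣ 898128000 ∧ ¬ 64 ∣ n) X := by
  obtain ⟨hfin, hs, hcard, ⟨L⟩⟩ := TypeM.FactsMcL.facts h
  intro x hx hout K hK
  have h1 : Nat.card ↥K ∣ Nat.card ↥(fixedSubgroup x) := card_subgroup_dvd_card K
  refine ⟨(h1.trans (card_subgroup_dvd_card _)).trans (by rw [hcard]), fun h64 => ?_⟩
  exact not_dvd_fix L hcard (by rw [← pow_two, ← hx, pow_orderOf_eq_one]) hout (h64.trans h1)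

end mcl

end Cfsg.Agent.H287
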