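import Cfsg.Agent.H287.FixCard
import Cfsg.Agent.CpAut.TwoAll
import Cfsg.Agent.NotCT.Orders
import Cfsg.Agent.S2060
import Cfsg.Agent.S2063
import Cfsg.Agent.S2064
import Cfsg.Agent.S2068
import Cfsg.Agent.S2069
import Cfsg.Agent.S2070
import Cfsg.Agent.S2071
import Cfsg.Agent.S2080
import Cfsg.Agent.S2083
import Cfsg.Agent.S2085

/-!
# Components of the centralizers of involutory automorphisms: sporadic groups with `Out = 1` (helper287)

`M₁₁`, `M₂₃`, `M₂₄`, `J₄`, `Co₂`, `Th` (no component), `Co₁`, `Co₃`, `Fi₂₃`, `M`.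
-/

set_option autoImplicit false

namespace Cfsg.Agent.H287

open Subgroup Cfsg
open Cfsg.Agent.CTwoTab
open Cfsg.Agent.CpAut
open Cfsg.Agent.NotCT

universe u v

/-- a group with `Out = 1` -/
theorem row_inn {S : ℕ → ℕ → Prop} {X : Type u} [Group X] [Finite X] [IsSimpleGroup X] {Y : Type v} [Group Y]
    (e : X ≃* Y) (hp : ¬ (Nat.card X).Prime) (ho : Nat.card (Cfsg.Out Y) = 1) (hY : CompCard S Y) : FixCard S X :=
  FixCard.of_inner (TwoInner.center_eq_bot_of_card inferInstance hp)
    (TwoInner.inner_congr e fun α => inner_of_out ho α) (hY.of_equiv e.symm)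

/-- a group of characteristic 2 type with `Out = 1` -/
theorem row_ct {X : Type u} [Group X] [Finite X] [IsSimpleGroup X] {Y : Type v} [Group Y]
    (e : X ≃* Y) (hp : ¬ (Nat.card X).Prime) (ho : Nat.card (Cfsg.Out Y) = 1) (hY : AllCT Y) : FixCard NoC X := by
  have : Finite Y := Finite.of_equiv X e.toEquiv
  exact row_inn e hp ho (compCard_of_ct hY)

section rows

variable {X : Type u} [Group X] [Finite X] [IsSimpleGroup X]

theorem fix_m11 (h : Spor.IsoM11 X) : FixCard NoC X := by
  have hc := Orders.m11 h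
  obtain ⟨e⟩ := h
  exact row_ct e (by rw [hc]; norm_num) S2060.result TwoCT.m11

theorem fix_m23 (h : Spor.IsoM23 X) : FixCard NoC X := by
  have hc := Orders.m23 h
  obtain ⟨e⟩ := h
  exact row_ct e (by rw [hc]; norm_num) S2063.result TwoCT.m23

theorem fix_m24 (h : Spor.IsoM24 X) : FixCard NoC X := by
  have hc := Orders.m24 h
  obtain ⟨e⟩ := h
  exact row_ct e (by rw [hc]; norm_num) S2064.result TwoCT.m24

theorem fix_j4 (h : Spor.IsoJ4 X) : FixCard NoC X := by
  have hc := Orders.j4 h
  obtain ⟨e⟩ := h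
  exact row_ct e (by rw [hc]; norm_num) S2068.result TwoCT.j4

theorem fix_co2 (h : Spor.IsoCo2 X) : FixCard NoC X := by
  have hc := Orders.co2 h
  obtain ⟨e⟩ := h
  exact row_ct e (by rw [hc]; norm_num) S2070.result TwoCT.co2

theorem fix_th (h : Spor.IsoTh X) : FixCard NoC X := by
  have hc := Orders.th h
  obtain ⟨e⟩ := h
  exact row_ct e (by rw [hc]; norm_num) S2083.result TwoCT.th

theorem fix_co1 (h : Spor.IsoCo1 X) : FixCard (fun n m => n = 251596800 ∧ m = 251596800) X := by
  have hc := Orders.co1 h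
  obtain ⟨e⟩ := h
  exact row_inn e (by rw [hc]; norm_num) S2069.result CTwoTab.Co1.compCard

theorem fix_co3 (h : Spor.IsoCo3 X) :
    FixCard (fun n m => (n = 2903040 ∧ m = 1451520) ∨ ((n = 95040 ∨ n = 190080) ∧ m = 95040)) X := by
  have hc := Orders.co3 h
  obtain ⟨e⟩ := h
  exact row_inn e (by rw [hc]; norm_num) S2071.result CTwoTab.Co3.compCard

theorem fix_m (h : Spor.IsoM X) :
    FixCard (fun n m => n = 8309562962452852382355161088000000 ∧ m = 4154781481226426191177580544000000) X := by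
  have hc := Orders.m h
  have h1 := CTwoTab.Monster.compCard h
  obtain ⟨e⟩ := h
  refine FixCard.of_inner (TwoInner.center_eq_bot_of_card inferInstance ?_)
    (TwoInner.inner_congr e fun α => inner_of_out S2085.result α) h1
  rw [hc]
  norm_num

theorem fix_fi23 (h : Spor.IsoFi23 X) : FixCard (fun n m => (n = 2 * 64561751654400 ∧ m = 64561751654400) ∨
    (m = 9196830720 ∧ (n = 9196830720 ∨ n = 2 * 9196830720 ∨ n = 4 * 9196830720))) X := by
  have hc := Orders.fi23 h
  obtain ⟨e⟩ := h
  exact row_inn e (by rw [hc]; norm_num) S2080.result (CTwoTab.Fi23Res.compCard CTwoTab.Fi23Fin.hU)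

end rows

end Cfsg.Agent.H287
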