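import Cfsg.Agent.H287.TwoAlt
import Cfsg.Agent.H287.FixInn
import Cfsg.Agent.CTwoTab.Ru
import Cfsg.Agent.EvenType.KSection
import Cfsg.Agent.H7.JOneStd
import Cfsg.Agent.H168.Rad
import Cfsg.Agent.S2065
import Cfsg.Agent.S2076
import Cfsg.Agent.S2077

/-!
# Components of the centralizers of involutory automorphisms: `J₁`, `Ru`, `Ly` (`Out = 1`) (helper287)
-/

set_option autoImplicit false

namespace Cfsg.Agent.H287

open Subgroup Cfsg
open Cfsg.Agent.CTwoTab
open Cfsg.Agent.CpAut
open Cfsg.Agent.NotCT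
open Cfsg.Agent.SignalizersComponents.Components

universe u v

/-- `K / Z(K)` has at least 60 elements -/
theorem sixty_le_quot {K : Type u} [Group K] [Finite K] (h : IsQuasisimple K) : 60 ≤ Nat.card (K ⧸ center K) := by
  have h1 := h.2
  have h2 := EvenType.KSection.not_comm_of_quasisimple h
  refine H168.NoSolv.sixty_le fun hs => ?_
  apply h2
  refine ⟨⟨fun a b => ?_⟩⟩
  have h3 : commutator (K ⧸ center K) = ⊥ := by
    rcases (inferInstance : (commutator (K ⧸ center K)).Normal).eq_bot_or_eq_top with h3 | h3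
    · exact h3
    · exact absurd h3 (Group.IsSolvable.commutator_lt_top_of_nontrivial (K ⧸ center K)).ne
  rw [commutator_eq_bot_iff_center_eq_top] at h3
  exact (mem_center_iff.1 (by rw [h3]; exact mem_top a) b).symm

theorem quot_eq_sixty {K : Type u} [Group K] (h : IsQuasisimple K) (hc : Nat.card K = 60) :
    Nat.card (K ⧸ center K) = 60 := by
  have hfin : Finite K := Nat.finite_of_card_ne_zero (by rw [hc]; norm_num)
  have h1 := sixty_le_quot h
  have h2 : Nat.card (K ⧸ center K) ∣ 60 := by rw [← hc]; exact card_quotient_dvd_card (center K)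
  exact le_antisymm (Nat.le_of_dvd (by norm_num) h2) h1

/-- the involution centralizers of `J₁` -/
theorem compCard_j1 {X : Type u} [Group X] (h : Spor.IsoJ1 X) : CompCard (fun n m => n = 60 ∧ m = 60) X := by
  intro t ht K hK
  obtain ⟨h1, -⟩ := H7.JOneStd.std_of_iso h ht _ hK.2
  rw [(card_subgroupOf hK.1).1] at h1
  refine ⟨h1, quot_eq_sixty ?_ h1⟩
  exact (isQuasisimple_congr (subgroupOfEquivOfLe hK.1)).1 hK.2.2

open Cfsg.Agent.KFacts.Ru Cfsg.Agent.CTwoTab.Ru Cfsg.Agent.RuB in
/-- the involution centralizers of `Ru` -/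
theorem compCard_ru {X : Type u} [Group X] [Finite X] (h : Spor.IsoRu X) :
    CompCard (fun n m => n = 29120 ∧ m = 29120) X := by
  obtain ⟨C, hsz, hc⟩ := exists_core_sz h
  have hs : IsSimpleGroup ↥C.L := simple_sz hsz
  have hna := na_L C
  refine CompCard.mk_of_classes (fun s => s = C.z 1 ∨ ∃ a, a ≠ 0 ∧ s = C.v a) (fun x hx => ?_) ?_
  · have hxx : x * x = 1 := by rw [← pow_two, ← hx, pow_orderOf_eq_one]
    have hx1 : x ≠ 1 := by
      rintro rfl
      rw [orderOf_one] at hx
      omega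
    rcases InvC.invol_cases C hxx hx1 with ⟨g, hg⟩ | ⟨g, a, ha, hg⟩
    · exact ⟨g, C.z 1, Or.inl rfl, hg.symm⟩
    · exact ⟨g, C.v a, Or.inr ⟨a, ha, rfl⟩, hg.symm⟩
  · rintro s (rfl | ⟨a, ha, rfl⟩) K hK
    · exact absurd hK (no_comp_z C K)
    · have h1 : K = C.L := comp_eq (CTwoTab.isQuasisimple_of_simple hna) (le_cent C a) (perfect_le_L C ha) hK
      subst h1
      refine ⟨hc, ?_⟩
      rw [CTwoTab.center_eq_bot_of_simple hna, Nat.card_congr QuotientGroup.quotientBot.toEquiv, hc]

section rows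

variable {X : Type u} [Group X] [Finite X] [IsSimpleGroup X]

theorem fix_j1 (h : Spor.IsoJ1 X) : FixCard (fun n m => n = 60 ∧ m = 60) X := by
  have hc := Orders.j1 h
  have h1 := compCard_j1 h
  obtain ⟨e⟩ := h
  exact row_inn e (by rw [hc]; norm_num) S2065.result (h1.of_equiv e)

theorem fix_ru (h : Spor.IsoRu X) : FixCard (fun n m => n = 29120 ∧ m = 29120) X := by
  have hc := Orders.ru h
  have h1 := compCard_ru h
  obtain ⟨e⟩ := h
  exact row_inn e (by rw [hc]; norm_num) S2077.result (h1.of_equiv e)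

theorem fix_ly (h : Spor.IsoLy X) : FixCard (fun n m => n = 39916800 ∧ m = 19958400) X := by
  have hc := Orders.ly h
  have h1 := TwoAlt.compCard_ly h
  obtain ⟨e⟩ := h
  exact row_inn e (by rw [hc]; norm_num) S2076.result (h1.of_equiv e)

end rows

end Cfsg.Agent.H287
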