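import Cfsg.Agent.H287.Central
import Cfsg.Agent.CTwoTab.Kinds
import Cfsg.Agent.TypeM.FactsLy
import Cfsg.Agent.TypeM.FactsMcL

/-!
# Involution centralizers `2.A_n`: the orders of the components (helper287)

`McL` (`n = 8`) and `Ly` (`n = 11`).
-/

set_option autoImplicit false

namespace Cfsg.Agent.H287.TwoAlt

open Subgroup Cfsg Equiv
open Cfsg.Agent.CTwoTab
open Cfsg.Agent.SporRec.TwoAn
open Cfsg.Agent.TypeM
open Cfsg.Agent.TypeM.Two (MT)
open Cfsg.Agent.SignalizersComponents.Components

universe u v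

/-- the quotient by the kernel is the alternating group -/
noncomputable def quoKer {n : ℕ} {C : Type u} [Group C] (K : Cover (Fin n) C) : C ⧸ K.π.ker ≃* ↥(alternatingGroup (Fin n)) :=
  (QuotientGroup.quotientKerEquivRange K.π).trans (MulEquiv.subgroupCongr K.range_eq)

theorem ker_le {n : ℕ} {C : Type u} [Group C] (K : Cover (Fin n) C) : K.π.ker ≤ center C := by
  intro x hx
  rcases (K.ker x).1 hx with rfl | rfl
  · exact one_mem _
  · exact mem_center_iff.2 K.z_comm

theorem card_ker {n : ℕ} {C : Type u} [Group C] (K : Cover (Fin n) C) : Nat.card ↥K.π.ker = 2 := by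
  have h : (K.π.ker : Set C) = {1, K.z} := by
    ext x
    exact K.ker x
  have h1 : Nat.card ↥K.π.ker = (K.π.ker : Set C).ncard := rfl
  rw [h1, h, Set.ncard_pair K.z_ne.symm]

theorem card_C {n : ℕ} {C : Type u} [Group C] (K : Cover (Fin n) C) :
    Nat.card C = Nat.card ↥(alternatingGroup (Fin n)) * 2 := by
  rw [card_eq_card_quotient_mul_card_subgroup K.π.ker, card_ker, Nat.card_congr (quoKer K).toEquiv]

/-- components of `2.A_n` -/
theorem hcard_cover {n : ℕ} (hn : 5 ≤ n) {C : Type u} [Group C] (K : Cover (Fin n) C) :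
    HCard (fun a b => a = Nat.card ↥(alternatingGroup (Fin n)) * 2 ∧ b = Nat.card ↥(alternatingGroup (Fin n))) C := by
  have hfin : Finite C := Nat.finite_of_card_ne_zero (by
    rw [card_C K]
    exact Nat.mul_ne_zero Nat.card_pos.ne' two_ne_zero)
  have hs : IsSimpleGroup (C ⧸ K.π.ker) := simple_alt hn (quoKer K)
  have hna := na_alt hn (quoKer K)
  intro L hL
  obtain ⟨hsup, ⟨e⟩⟩ := comp_central (ker_le K) hna hL
  have hb : Nat.card (↥L ⧸ center ↥L) = Nat.card ↥(alternatingGroup (Fin n)) :=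
    Nat.card_congr (e.trans (quoKer K)).toEquiv
  refine ⟨?_, hb⟩
  -- `z ∈ L`
  have hz : K.z ∈ L := by
    let a : Fin n := ⟨0, by omega⟩
    let b : Fin n := ⟨1, by omega⟩
    let c : Fin n := ⟨2, by omega⟩
    let d : Fin n := ⟨3, by omega⟩
    have hσ : swap a b * swap c d ∈ alternatingGroup (Fin n) := by
      rw [Perm.mem_alternatingGroup, Perm.sign_mul, Perm.sign_swap (by simp [a, b]), Perm.sign_swap (by simp [c, d])]
      rfl
    obtain ⟨g, hg⟩ := K.exists_lift hσ
    have hgs : g ∈ L ⊔ K.π.ker := by rw [hsup]; exact Subgroup.mem_top g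
    obtain ⟨l, hl, k, hk, rfl⟩ := mem_sup_of_normal_right.1 hgs
    have hk1 : K.π k = 1 := hk
    rw [map_mul, hk1, mul_one] at hg
    have h2 := K.dbl a b c d (by simp [a, b]) (by simp [a, c]) (by simp [a, d]) (by simp [b, c]) (by simp [b, d])
      (by simp [c, d]) l hg
    rw [← h2]
    exact mul_mem hl hl
  have hLtop : L = ⊤ := by
    rw [← hsup, eq_comm, sup_eq_left]
    intro x hx
    rcases (K.ker x).1 hx with rfl | rfl
    · exact one_mem _
    · exact hz
  rw [hLtop, card_top, card_C K]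

/-- all involutions conjugate, centralizer `2.A_n` -/
theorem compCard {n : ℕ} (hn : 5 ≤ n) {G : Type u} [Group G] (L : MT n G) :
    CompCard (fun a b => a = Nat.card ↥(alternatingGroup (Fin n)) * 2 ∧ b = Nat.card ↥(alternatingGroup (Fin n))) G := by
  refine CompCard.mk_of_classes (fun s => s = L.t) ?_ ?_
  · intro t ht
    obtain ⟨g, hg⟩ := L.one t (by rw [← pow_two, ← ht, pow_orderOf_eq_one]) (by
      rintro rfl
      rw [orderOf_one] at ht
      omega)
    exact ⟨g, L.t, rfl, hg.symm⟩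
  · rintro s rfl K hK
    exact (hcard_cover hn L.K).comp hK

theorem card_alt {n : ℕ} (hn : 2 ≤ n) : Nat.card ↥(alternatingGroup (Fin n)) = n.factorial / 2 := by
  have : Nontrivial (Fin n) := Fin.nontrivial_iff_two_le.2 hn
  rw [Nat.card_eq_fintype_card, card_alternatingGroup, Fintype.card_fin]

theorem compCard_ly {X : Type u} [Group X] (h : Spor.IsoLy X) :
    CompCard (fun a b => a = 39916800 ∧ b = 19958400) X := by
  obtain ⟨-, -, -, ⟨L⟩⟩ := FactsLy.facts h
  refine (compCard (by norm_num) L).mono ?_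
  rintro a b ⟨rfl, rfl⟩
  rw [card_alt (by norm_num)]
  exact ⟨by decide, by decide⟩

theorem compCard_mcl {X : Type u} [Group X] (h : Spor.IsoMcL X) :
    CompCard (fun a b => a = 40320 ∧ b = 20160) X := by
  obtain ⟨-, -, -, ⟨L⟩⟩ := FactsMcL.facts h
  refine (compCard (by norm_num) L).mono ?_
  rintro a b ⟨rfl, rfl⟩
  rw [card_alt (by norm_num)]
  exact ⟨by decide, by decide⟩

end Cfsg.Agent.H287.TwoAlt
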