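import Cfsg.Agent.H287.InnTwo
import Cfsg.Agent.CpAut.TwoOuter

/-!
# `J₂`: an involutory automorphism centralizes no `A₈` (helper287)
-/

set_option autoImplicit false

namespace Cfsg.Agent.H287

open Subgroup Cfsg
open Cfsg.Agent.CTwoTab
open Cfsg.Agent.CpAut Cfsg.Agent.CpAut.TwoAbs
open Cfsg.Agent.J2Type.Model Cfsg.Agent.J2Type.SPFacts Cfsg.Agent.J2Type.CStruct
open Cfsg.Agent.J3Type.OneClass Cfsg.Agent.J2Type.Base
open Cfsg.Agent.KFacts.J2.Basic Cfsg.Agent.KFacts.J2.Aut
open Cfsg.Agent.OddHalf.D4.Spor.JTwo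

universe u

/-- a four cycle times a transposition -/
def py : Equiv.Perm (Fin 8) := List.formPerm [0, 1, 2, 3] * List.formPerm [4, 5]
/-- a three cycle -/
def ps : Equiv.Perm (Fin 8) := List.formPerm [4, 5, 6]
/-- a seven cycle -/
def pc : Equiv.Perm (Fin 8) := List.formPerm [0, 1, 2, 3, 4, 5, 6]

theorem sign_py : Equiv.Perm.sign py = 1 := by decide +kernel
theorem sign_ps : Equiv.Perm.sign ps = 1 := by decide +kernel
theorem sign_pc : Equiv.Perm.sign pc = 1 := by decide +kernel
theorem py_four : py * py * (py * py) = 1 := by decide +kernel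
theorem py_two : py * py ≠ 1 := by decide +kernel
theorem ps_three : ps ^ 3 = 1 := by decide +kernel
theorem ps_ne : ps ≠ 1 := by decide +kernel
theorem ps_py : ps * (py * py) = (py * py) * ps := by decide +kernel
theorem pc_seven : pc ^ 7 = 1 := by decide +kernel
theorem pc_ne : pc ≠ 1 := by decide +kernel

/-- the elements of `A₈` used in the proof -/
theorem alt_eight : ∃ y s c : alternatingGroup (Fin 8), y * y * (y * y) = 1 ∧ y * y ≠ 1 ∧ s ^ 3 = 1 ∧ s ≠ 1 ∧
    s * (y * y) = (y * y) * s ∧ c ^ 7 = 1 ∧ c ≠ 1 :=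
  ⟨⟨py, Equiv.Perm.mem_alternatingGroup.2 sign_py⟩, ⟨ps, Equiv.Perm.mem_alternatingGroup.2 sign_ps⟩,
    ⟨pc, Equiv.Perm.mem_alternatingGroup.2 sign_pc⟩, Subtype.ext py_four, fun h => py_two (congrArg Subtype.val h),
    Subtype.ext ps_three, fun h => ps_ne (congrArg Subtype.val h), Subtype.ext ps_py, Subtype.ext pc_seven,
    fun h => pc_ne (congrArg Subtype.val h)⟩

/-- no element of order 7 of `J₂` commutes with an involution -/
theorem j2_seven {X : Type u} [Group X] [Finite X] (h : Spor.IsoJ2 X) {v c : X} (hv : orderOf v = 2)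
    (hvc : c * v = v * c) (hc : c ^ 7 = 1) : c = 1 := by
  obtain ⟨t, u, Q, w, ρ, D⟩ := Cfsg.Agent.KFacts.J2.Facts.exists_dat_of h
  have key : ∀ s : X, (s = t ∨ s = u) → ∀ c : X, c * s = s * c → c ^ 7 = 1 → c = 1 := by
    rintro s (rfl | rfl) c hcs hc7
    · have h1 : orderOf c ∣ 7 := orderOf_dvd_of_pow_eq_one hc7
      have h2 : orderOf c ∣ 1920 := by
        have h3 := D.cardC
        have h4 : c ∈ centralizer ({s} : Set X) := mem_centralizer_singleton_iff.2 hcs
        rw [← h3, ← Subgroup.orderOf_mk c h4]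
        exact orderOf_dvd_natCard _
      have h3 := Nat.dvd_gcd h1 h2
      norm_num at h3
      exact h3
    · obtain ⟨f, U, V, H0, F⟩ := Cfsg.Agent.J2Type.CentU.main D.F
      obtain ⟨e⟩ := equiv_H0 D F
      have h1 : orderOf c ∣ 7 := orderOf_dvd_of_pow_eq_one hc7
      have h2 : c ∈ H0 := by
        have h3 : c = c ^ 4 * c ^ 4 := by rw [← pow_add, show 4 + 4 = 7 + 1 by norm_num, pow_succ, hc7, one_mul]
        rw [h3]
        exact F.str.sq_mem _ (pow_mem (mem_centralizer_singleton_iff.2 hcs) 4)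
      have h4 : orderOf c ∣ 60 := by
        have h5 := (cards_alt le_rfl e).1
        change Nat.card ↥H0 = 60 at h5
        rw [← h5, ← Subgroup.orderOf_mk c h2]
        exact orderOf_dvd_natCard _
      have h3 := Nat.dvd_gcd h1 h4
      norm_num at h3
      exact h3
  have h0 : IsConj t v ∨ IsConj u v := D.F.cover v hv
  have conj : ∀ s : X, (s = t ∨ s = u) → IsConj s v → c = 1 := by
    intro s hs h1
    obtain ⟨g, hg⟩ := isConj_iff.1 h1
    have h2 : g⁻¹ * c * g = 1 := by
      refine key s hs _ ?_ ?_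
      · calc g⁻¹ * c * g * s = g⁻¹ * (c * (g * s * g⁻¹)) * g := by group
          _ = g⁻¹ * (g * s * g⁻¹ * c) * g := by rw [hg, hvc]
          _ = s * (g⁻¹ * c * g) := by group
      · have h3 : (g⁻¹ * c * g) ^ 7 = g⁻¹ * c ^ 7 * g := by
          have := conj_pow (i := 7) (a := g⁻¹) (b := c)
          rw [inv_inv] at this
          exact this
        rw [h3, hc]; group
    calc c = g * (g⁻¹ * c * g) * g⁻¹ := by group
      _ = 1 := by rw [h2]; group
  rcases h0 with h1 | h1
  · exact conj t (Or.inl rfl) h1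
  · exact conj u (Or.inr rfl) h1

/-- **An involutory automorphism of `J₂` centralizes no `A₈`.** -/
theorem j2_no_alt {X : Type u} [Group X] [Finite X] (h : Spor.IsoJ2 X) (hz : center X = ⊥) {α : MulAut X} (hαα : α * α = 1)
    (hα : α ≠ 1) (f : alternatingGroup (Fin 8) →* X) (hf : Function.Injective f) (hfix : ∀ s, α (f s) = f s) :
    False := by
  obtain ⟨y, s, c, hy4, hy2, hs3, hs1, hsy, hc7, hc1⟩ := alt_eight
  have inj : ∀ a, f a = 1 → a = 1 := fun a ha => hf (ha.trans (map_one f).symm)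
  by_cases hin : ∃ v, α = MulAut.conj v
  · obtain ⟨v, rfl⟩ := hin
    have hcomm : ∀ a, f a * v = v * f a := by
      intro a
      have h1 := hfix a
      rw [MulAut.conj_apply] at h1
      exact (mul_inv_eq_iff_eq_mul.1 h1).symm
    have hv : orderOf v = 2 := by
      refine orderOf_eq_prime ?_ ?_
      · have h1 : v ^ 2 ∈ center X := by
          rw [mem_center_iff]
          intro g
          have h2 := DFunLike.congr_fun hαα g
          change v * (v * g * v⁻¹) * v⁻¹ = g at h2
          rw [pow_two]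
          calc g * (v * v) = v * (v * g * v⁻¹) * v⁻¹ * (v * v) := by rw [h2]
            _ = _ := by group
        rw [hz] at h1
        exact h1
      · rintro rfl
        exact hα (map_one _)
    exact hc1 (inj c (j2_seven h hv (hcomm c) (by rw [← map_pow, hc7, map_one])))
  · have hout : ∀ k, α ≠ MulAut.conj k := fun k hk => hin ⟨k, hk⟩
    obtain ⟨t, u, Q, w, ρ, D⟩ := Cfsg.Agent.KFacts.J2.Facts.exists_dat_of h
    have hr1 : f (y * y) ≠ 1 := fun h1 => hy2 (inj _ h1)
    have hr2 : orderOf (f (y * y)) = 2 := by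
      refine orderOf_eq_prime ?_ hr1
      rw [pow_two, ← map_mul, hy4, map_one]
    rcases D.F.cover _ hr2 with h1 | h1
    · have h2 := CpAutTwo.JTwo.pow_two_pow D hout (fun x => DFunLike.congr_fun hαα x) h1 (hfix _) (b := f s) (hfix _)
        (by rw [← map_mul, ← map_mul, hsy])
      apply hs1
      apply inj
      have h3 : (f s) ^ 3 = 1 := by rw [← map_pow, hs3, map_one]
      have h4 : orderOf (f s) ∣ 3 := orderOf_dvd_of_pow_eq_one h3
      have h5 : orderOf (f s) ∣ 2 ^ 6 := orderOf_dvd_of_pow_eq_one h2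
      have h6 := Nat.dvd_gcd h4 h5
      norm_num at h6
      exact h6
    · exact CpAutTwo.JTwo.no_sqrt D h1 (f y) (map_mul f y y).symm

end Cfsg.Agent.H287
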