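import Cfsg.Agent.H287.FixCard
import Cfsg.Agent.SignalizersComponents.ComponentNormalize

/-!
# A component whose order is divisible by a prime with Sylow subgroups of order `r` (helper287)
-/

set_option autoImplicit false

namespace Cfsg.Agent.H287

open Subgroup Cfsg
open Cfsg.Agent.CTwoTab
open Cfsg.Agent.SignalizersComponents.Components Cfsg.Agent.SignalizersComponents.ComponentNormalize

universe u

theorem card_mul_dvd {H : Type u} [Group H] [Finite H] {B C : Subgroup H} (hc : ∀ b ∈ B, ∀ c ∈ C, b * c = c * b)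
    (hd : ∀ x ∈ B, x ∈ C → x = 1) : Nat.card ↥B * Nat.card ↥C ∣ Nat.card H := by
  let f : ↥B × ↥C →* H :=
    { toFun := fun p => (p.1 : H) * (p.2 : H)
      map_one' := mul_one _
      map_mul' := fun p q => by
        change ((p.1 : H) * (q.1 : H)) * ((p.2 : H) * (q.2 : H)) = (p.1 : H) * (p.2 : H) * ((q.1 : H) * (q.2 : H))
        calc ((p.1 : H) * (q.1 : H)) * ((p.2 : H) * (q.2 : H)) = (p.1 : H) * ((q.1 : H) * (p.2 : H)) * (q.2 : H) := by
              group
          _ = (p.1 : H) * ((p.2 : H) * (q.1 : H)) * (q.2 : H) := by rw [hc _ q.1.2 _ p.2.2]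
          _ = _ := by group }
  have hf : Function.Injective f := by
    rw [injective_iff_map_eq_one]
    rintro ⟨⟨a, ha⟩, ⟨b, hb⟩⟩ h
    have h1 : a * b = 1 := h
    have h2 : a = b⁻¹ := eq_inv_of_mul_eq_one_left h1
    have h3 : a = 1 := hd a ha (h2 ▸ inv_mem hb)
    subst h3
    have h4 : b = 1 := by rwa [one_mul] at h1
    subst h4
    rfl
  have h1 := card_dvd_of_injective f hf
  rwa [Nat.card_prod] at h1

/-- commuting elements of order `r` generate the same subgroup if `r²` does not divide the order of the group -/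
theorem zpowers_eq {H : Type u} [Group H] [Finite H] {r : ℕ} (hr : r.Prime) (h2 : ¬ r ^ 2 ∣ Nat.card H) {a b : H}
    (ha : orderOf a = r) (hb : orderOf b = r) (hab : a * b = b * a) : zpowers a = zpowers b := by
  have key : ∃ x, x ∈ zpowers a ∧ x ∈ zpowers b ∧ x ≠ 1 := by
    by_contra hcon
    push Not at hcon
    apply h2
    have h3 := card_mul_dvd (B := zpowers a) (C := zpowers b) (by
      rintro _ ⟨i, rfl⟩ _ ⟨j, rfl⟩
      exact ((show Commute a b from hab).zpow_zpow i j).eq) hcon
    rwa [Nat.card_zpowers, Nat.card_zpowers, ha, hb, ← pow_two] at h3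
  obtain ⟨x, hxa, hxb, hx1⟩ := key
  have hx : ∀ c : H, orderOf c = r → x ∈ zpowers c → zpowers x = zpowers c := by
    intro c hc hxc
    refine eq_of_le_of_card_ge (zpowers_le.2 hxc) ?_
    have h3 : orderOf x ∣ r := by rw [← hc]; exact orderOf_dvd_of_mem_zpowers hxc
    rw [Nat.card_zpowers, Nat.card_zpowers, hc]
    rcases (Nat.dvd_prime hr).1 h3 with h4 | h4
    · exact absurd (orderOf_eq_one_iff.1 h4) hx1
    · rw [h4]
  rw [← hx a ha hxa, hx b hb hxb]

theorem component_conj {H : Type u} [Group H] {A : Subgroup H} (hA : IsComponent A) (g : H) :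
    IsComponent (A.map (MulAut.conj g).toMonoidHom) := isComponent_map_equiv (MulAut.conj g) hA

/-- **A component with a non-central element of order `r` is normal if `r²` does not divide the order.** -/
theorem normal_of_prime {H : Type u} [Group H] [Finite H] {r : ℕ} (hr : r.Prime) (h2 : ¬ r ^ 2 ∣ Nat.card H)
    {A : Subgroup H} (hA : IsComponent A) {w : H} (hw : w ∈ A) (hwr : orderOf w = r)
    (hwc : ∃ a ∈ A, w * a ≠ a * w) : A.Normal := by
  have key : ∀ g : H, A.map (MulAut.conj g).toMonoidHom = A := by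
    intro g
    by_contra hne
    have hc := component_conj hA g
    have h1 := component_comm_of_ne hA hc (Ne.symm hne)
    rw [commutator_eq_bot_iff_le_centralizer] at h1
    have h3 : g * w * g⁻¹ ∈ A.map (MulAut.conj g).toMonoidHom := ⟨w, hw, rfl⟩
    have h4 : orderOf (g * w * g⁻¹) = r := by
      rw [← MulAut.conj_apply, MulEquiv.orderOf_eq, hwr]
    have h5 : w * (g * w * g⁻¹) = g * w * g⁻¹ * w := (mem_centralizer_iff.1 (h1 hw) _ h3).symm
    have h6 := zpowers_eq hr h2 hwr h4 h5
    have h7 : w ∈ A.map (MulAut.conj g).toMonoidHom := by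
      have h8 : w ∈ zpowers (g * w * g⁻¹) := h6 ▸ mem_zpowers w
      exact (zpowers_le.2 h3) h8
    obtain ⟨a, ha, hne'⟩ := hwc
    exact hne' (mem_centralizer_iff.1 (h1 ha) _ h7)
  refine ⟨fun a ha g => ?_⟩
  rw [← key g]
  exact ⟨a, ha, rfl⟩

/-- noncentral elements -/
theorem noncentral {H : Type u} [Group H] [Finite H] {r : ℕ} {A : Subgroup H}
    (h2 : ¬ r ^ 2 ∣ Nat.card ↥A) (hrA : r ∣ Nat.card (↥A ⧸ center ↥A)) {w : H} (hw : w ∈ A) (hwr : orderOf w = r) :
    ∃ a ∈ A, w * a ≠ a * w := by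
  by_contra hcon
  push Not at hcon
  apply h2
  have h1 : (⟨w, hw⟩ : ↥A) ∈ center ↥A := by
    rw [mem_center_iff]
    intro a
    exact Subtype.ext (hcon a a.2).symm
  have h3 : r ∣ Nat.card ↥(center ↥A) := by
    have h4 : orderOf (⟨⟨w, hw⟩, h1⟩ : ↥(center ↥A)) = r := by
      rw [Subgroup.orderOf_mk, Subgroup.orderOf_mk, hwr]
    rw [← h4]
    exact orderOf_dvd_natCard _
  rw [Subgroup.card_eq_card_quotient_mul_card_subgroup (center ↥A), pow_two]
  exact Nat.mul_dvd_mul hrA h3

end Cfsg.Agent.H287
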