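import Cfsg.Agent.H287.HNc
import Cfsg.Agent.H287.J2Alt
import Cfsg.Agent.H287.NormalComp
import Cfsg.Agent.H291.Parity

/-!
# The outer involutory automorphisms of `HN` (helper287)

* `exists_normal` : an outer involutory automorphism fixing an element of order 7 or 11;
* `eleven` : `11` does not divide the order of the centralizer;
* `no_j2` : no component `K` of the centralizer has `K / Z(K) ≅ J₂`.
-/

set_option autoImplicit false

namespace Cfsg.Agent.H287.OutHN

open Subgroup Cfsg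
open Cfsg.Agent.HN Cfsg.Agent.HN.Pres Cfsg.Agent.HN.P1408 Cfsg.Agent.HN.H0Basic Cfsg.Agent.HN.Local
open Cfsg.Agent.HN.Iota
open Cfsg.Agent.HN.HS100 (K K_normal)
open Cfsg.Agent.HN.XWords (W0)
open Cfsg.Agent.SignalizersComponents.Components

universe u

variable {L : Type u} [Group L] (D : Cfsg.Agent.KFacts.HS.Mod L)

theorem card_HN : Nat.card Cfsg.Spor.HN = 273030912000000 := Cfsg.Agent.S1701.result.2

theorem card_ψτ : Nat.card ↥(centralizer ({NormalH.ψ τ} : Set Cfsg.Spor.HN)) = 177408000 :=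
  Cfsg.Agent.KFacts.HN.Classes.card_centralizer_τ

/-- a conjugate automorphism -/
theorem conj_apply' {X : Type*} [Group X] (g x : X) (t : MulAut X) :
    (MulAut.conj g * t * (MulAut.conj g)⁻¹) x = g * t (g⁻¹ * x * g) * g⁻¹ := by
  rw [MulAut.mul_apply, MulAut.mul_apply, MulAut.conj_apply, ← map_inv, MulAut.conj_apply, inv_inv]

include D in
/-- an automorphism of order 2 fixing `ψ τ` and an element of order 7 or 11 commuting with it -/
theorem normal_aux {t : MulAut Cfsg.Spor.HN} (htt : t * t = 1) (hout : ¬ ∃ g, t = MulAut.conj g)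
    (ht : t (NormalH.ψ τ) = NormalH.ψ τ) {w : Cfsg.Spor.HN} (hw : t w = w)
    (hwc : w * NormalH.ψ τ = NormalH.ψ τ * w) {p : ℕ} (hp : p = 7 ∨ p = 11) (hwp : orderOf w = p) :
    ∃ c w0 : H0, w = NormalH.ψ (c * w0 * c⁻¹) ∧ gz * w0 = w0 * gz ∧ orderOf w0 = p ∧
      ∀ k ∈ K, t (NormalH.ψ (c * k * c⁻¹)) = NormalH.ψ (c * (gz * k * gz⁻¹) * c⁻¹) := by
  have hfin : Finite H0 := H0Basic.finite_H0
  have hodd : Odd p := by rcases hp with rfl | rfl <;> decide
  obtain ⟨h, hh⟩ := exists_h D ht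
  obtain ⟨v, hv⟩ := Cfsg.Agent.KFacts.HN.emb.cent w hwc
  have hvp : orderOf v = p := by rw [← hwp, ← hv, orderOf_injective _ ψ_inj]
  have hvK : v ∈ K := mem_K_of_odd (by rw [hvp]; exact hodd)
  have hhv : h * v = v * h := by
    have h1 := hh v hvK
    rw [hv, hw, ← hv] at h1
    exact (mul_inv_eq_iff_eq_mul.1 (ψ_inj h1).symm)
  have hK : K.Normal := K_normal
  have h2 : h ^ 2 = 1 ∨ h ^ 2 = τ := by
    rw [← D.au_ker]
    ext l
    obtain ⟨k, rfl⟩ := D.surj l
    rw [D.au_π, MulAut.one_apply]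
    congr 1
    apply Subtype.ext
    change h ^ 2 * (k : H0) * (h ^ 2)⁻¹ = k
    apply ψ_inj
    have h3 := DFunLike.congr_fun htt (NormalH.ψ (k : H0))
    change t (t (NormalH.ψ (k : H0))) = NormalH.ψ (k : H0) at h3
    rw [hh k k.2, hh _ (hK.conj_mem k k.2 h)] at h3
    rw [← h3]
    congr 1
    rw [pow_two]; group
  rcases comm_cases D h2 hhv hp hvp with h3 | h3 | h3
  · exfalso
    refine hout (inner_of_fix htt ?_)
    rintro _ ⟨k, hk, rfl⟩
    rw [hh k hk, h3]
    congr 1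
    group
  · exfalso
    refine hout (inner_of_fix htt ?_)
    rintro _ ⟨k, hk, rfl⟩
    rw [hh k hk, h3]
    congr 1
    rw [← τ_comm, mul_inv_cancel_right]
  · obtain ⟨c, hc⟩ := isConj_iff.1 h3
    refine ⟨c, c⁻¹ * v * c, ?_, ?_, ?_, ?_⟩
    · rw [← hv]
      congr 1
      group
    · have h4 : gz = c⁻¹ * h * c := by rw [← hc]; group
      rw [h4]
      calc c⁻¹ * h * c * (c⁻¹ * v * c) = c⁻¹ * (h * v) * c := by group
        _ = c⁻¹ * (v * h) * c := by rw [hhv]
        _ = _ := by group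
    · have h4 : c⁻¹ * v * c = MulAut.conj c⁻¹ v := by rw [MulAut.conj_apply, inv_inv]
      rw [h4, MulEquiv.orderOf_eq, hvp]
    · intro k hk
      rw [hh _ (hK.conj_mem k hk c), ← hc]
      congr 1
      group

include D in
/-- **Normal form** of an outer involutory automorphism fixing an element of order 7 or 11. -/
theorem exists_normal {t : MulAut Cfsg.Spor.HN} (htt : t * t = 1) (hout : ¬ ∃ g, t = MulAut.conj g)
    {w : Cfsg.Spor.HN} (hw : t w = w) {p : ℕ} (hp : p = 7 ∨ p = 11) (hwp : orderOf w = p) :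
    ∃ (g : Cfsg.Spor.HN) (w0 : H0), w = g⁻¹ * NormalH.ψ w0 * g ∧ gz * w0 = w0 * gz ∧ orderOf w0 = p ∧
      (MulAut.conj g * t * (MulAut.conj g)⁻¹) (NormalH.ψ τ) = NormalH.ψ τ ∧
      ∀ k ∈ K, (MulAut.conj g * t * (MulAut.conj g)⁻¹) (NormalH.ψ k) = NormalH.ψ (gz * k * gz⁻¹) := by
  have hfin : Finite Cfsg.Spor.HN := Cfsg.Agent.KFacts.HN.finite_HN
  have hpp : p.Prime := by rcases hp with rfl | rfl <;> norm_num
  have he : Even (Nat.card ↥(centralizer ({w} : Set Cfsg.Spor.HN))) := by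
    refine H291.Parity.even_cent_of_small hpp ?_ orderOf_Q0 ?_ hwp
    · rw [card_HN]
      rcases hp with rfl | rfl <;> norm_num
    · rw [card_ψτ]
      rcases hp with rfl | rfl <;> norm_num
  obtain ⟨u, hu, htu, huw⟩ := H291.Parity.exists_comm_invo t htt hw he
  have hnW : ¬ IsConj u W0 := fun h => by
    have h1 := not_comm_W0 (w := w) h huw.symm
    rw [hwp] at h1
    rcases hp with rfl | rfl
    · exact h1.1 dvd_rfl
    · exact h1.2 dvd_rfl
  rcases Cfsg.Agent.KFacts.HN.Classes.inv_class hu with h | h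
  swap
  · exact absurd h hnW
  obtain ⟨g, hg⟩ := isConj_iff.1 h
  set t1 := MulAut.conj g * t * (MulAut.conj g)⁻¹ with ht1
  have ht1a : ∀ x, t1 x = g * t (g⁻¹ * x * g) * g⁻¹ := fun x => conj_apply' g x t
  have hu' : g⁻¹ * NormalH.ψ τ * g = u := by rw [← hg]; group
  have e1 : t1 * t1 = 1 := by
    rw [ht1]
    calc MulAut.conj g * t * (MulAut.conj g)⁻¹ * (MulAut.conj g * t * (MulAut.conj g)⁻¹)
        = MulAut.conj g * (t * t) * (MulAut.conj g)⁻¹ := by group
      _ = 1 := by rw [htt]; group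
  have e2 : ¬ ∃ x, t1 = MulAut.conj x := by
    rintro ⟨x, hx⟩
    refine hout ⟨g⁻¹ * x * g, ?_⟩
    rw [map_mul, map_mul, ← hx, ht1, map_inv]
    group
  have e3 : t1 (NormalH.ψ τ) = NormalH.ψ τ := by
    rw [ht1a, hu', htu, hg]
  have e4 : t1 (g * w * g⁻¹) = g * w * g⁻¹ := by
    rw [ht1a]
    have h1 : g⁻¹ * (g * w * g⁻¹) * g = w := by group
    rw [h1, hw]
  have e5 : g * w * g⁻¹ * NormalH.ψ τ = NormalH.ψ τ * (g * w * g⁻¹) := by
    rw [← hg]
    calc g * w * g⁻¹ * (g * u * g⁻¹) = g * (w * u) * g⁻¹ := by group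
      _ = g * (u * w) * g⁻¹ := by rw [huw]
      _ = _ := by group
  have e6 : orderOf (g * w * g⁻¹) = p := by
    rw [← MulAut.conj_apply, MulEquiv.orderOf_eq, hwp]
  obtain ⟨c, w0, f1, f2, f3, f4⟩ := normal_aux D e1 e2 e3 e4 e5 hp e6
  have h0 : NormalH.ψ c * NormalH.ψ τ * (NormalH.ψ c)⁻¹ = NormalH.ψ τ := by
    rw [← map_mul, ← map_inv, ← map_mul, τ_comm]
    congr 1
    group
  have h1 : ∀ x, (MulAut.conj ((NormalH.ψ c)⁻¹ * g) * t * (MulAut.conj ((NormalH.ψ c)⁻¹ * g))⁻¹) x =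
      (NormalH.ψ c)⁻¹ * t1 (NormalH.ψ c * x * (NormalH.ψ c)⁻¹) * NormalH.ψ c := by
    intro x
    rw [conj_apply', ht1a]
    have e : g⁻¹ * (NormalH.ψ c * x * (NormalH.ψ c)⁻¹) * g = ((NormalH.ψ c)⁻¹ * g)⁻¹ * x * ((NormalH.ψ c)⁻¹ * g) := by
      group
    rw [e]
    group
  refine ⟨(NormalH.ψ c)⁻¹ * g, w0, ?_, f2, f3, ?_, ?_⟩
  · have h2 : w = g⁻¹ * (g * w * g⁻¹) * g := by group
    rw [h2, f1, map_mul, map_mul, map_inv]
    group
  · rw [h1, h0, e3]
    nth_rewrite 1 [← h0]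
    group
  · intro k hk
    rw [h1, ← map_mul, ← map_inv, ← map_mul, f4 k hk, ← map_mul, ← map_mul]
    congr 1
    group

/-- the model of `HS` -/
theorem exists_D : Nonempty (Cfsg.Agent.KFacts.HS.Mod ↥Cfsg.Spor.HS) :=
  Cfsg.Agent.KFacts.HS.exists_mod ⟨MulEquiv.refl _⟩

/-- the automorphism induced on `A / Z(A)` -/
noncomputable def quoAut {A : Type*} [Group A] (α : MulAut A) : MulAut (A ⧸ center A) :=
  QuotientGroup.congr (center A) (center A) α (by
    ext x
    rw [mem_map]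
    constructor
    · rintro ⟨y, hy, rfl⟩
      rw [mem_center_iff] at hy ⊢
      intro g
      have h1 := congrArg α (hy (α.symm g))
      rw [map_mul, map_mul, MulEquiv.apply_symm_apply] at h1
      exact h1
    · intro hx
      rw [mem_center_iff] at hx
      refine ⟨α.symm x, ?_, α.apply_symm_apply x⟩
      rw [mem_center_iff]
      intro g
      apply α.injective
      rw [map_mul, map_mul]
      rw [α.apply_symm_apply]
      exact hx _)

theorem quoAut_mk {A : Type*} [Group A] (α : MulAut A) (a : A) :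
    quoAut α (QuotientGroup.mk a) = QuotientGroup.mk (α a) := rfl

/-- an automorphism of a perfect group which is trivial on `A / Z(A)` is trivial -/
theorem quoAut_eq_one {A : Type*} [Group A] (hp : _root_.commutator A = ⊤) {α : MulAut A} (h : quoAut α = 1) : α = 1 := by
  have h1 : ∀ a : A, ∃ z ∈ center A, α a = a * z := by
    intro a
    have h2 := DFunLike.congr_fun h (QuotientGroup.mk a)
    rw [quoAut_mk, MulAut.one_apply, eq_comm, QuotientGroup.eq] at h2
    exact ⟨_, h2, by group⟩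
  let E : Subgroup A :=
    { carrier := {a | α a = a}
      one_mem' := map_one α
      mul_mem' := fun {a b} ha hb => by
        change α (a * b) = a * b
        rw [map_mul, show α a = a from ha, show α b = b from hb]
      inv_mem' := fun {a} ha => by
        change α a⁻¹ = a⁻¹
        rw [map_inv, show α a = a from ha] }
  have hE : _root_.commutator A ≤ E := by
    rw [_root_.commutator_def, commutator_le]
    intro a _ b _
    obtain ⟨y, hy, ha⟩ := h1 a
    obtain ⟨z, hz, hb⟩ := h1 b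
    rw [mem_center_iff] at hy hz
    change α (a * b * a⁻¹ * b⁻¹) = a * b * a⁻¹ * b⁻¹
    rw [map_mul, map_mul, map_mul, map_inv, map_inv, ha, hb]
    calc a * y * (b * z) * (a * y)⁻¹ * (b * z)⁻¹ = a * (y * b) * (z * y⁻¹) * a⁻¹ * z⁻¹ * b⁻¹ := by group
      _ = a * (b * y) * (z * y⁻¹) * a⁻¹ * z⁻¹ * b⁻¹ := by rw [hy b]
      _ = a * b * (y * z) * y⁻¹ * a⁻¹ * z⁻¹ * b⁻¹ := by group
      _ = a * b * (y * z) * y⁻¹ * (z * a)⁻¹ * b⁻¹ := by group
      _ = a * b * (y * z) * y⁻¹ * (a * z)⁻¹ * b⁻¹ := by rw [hz a]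
      _ = a * b * (y * z * (z * y)⁻¹) * a⁻¹ * b⁻¹ := by group
      _ = _ := by rw [hz y, mul_inv_cancel, mul_one]
  rw [hp] at hE
  ext a : 1
  exact hE (mem_top a)

theorem orderOf_fix {X : Type*} [Group X] {t : MulAut X} (ht : orderOf t = 2) : t * t = 1 := by
  rw [← pow_two, ← ht, pow_orderOf_eq_one]

theorem eleven_HN {t : MulAut Cfsg.Spor.HN} (ht : orderOf t = 2) (hout : ¬ ∃ g, t = MulAut.conj g) :
    ¬ 11 ∣ Nat.card ↥(fixedSubgroup t) := by
  intro h
  have hfin : Finite Cfsg.Spor.HN := Cfsg.Agent.KFacts.HN.finite_HN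
  obtain ⟨D⟩ := exists_D
  have : Fact (Nat.Prime 11) := ⟨by norm_num⟩
  obtain ⟨w, hw⟩ := exists_prime_orderOf_dvd_card' 11 h
  obtain ⟨g, w0, -, h1, h2, -, -⟩ := exists_normal D (orderOf_fix ht) hout (w := (w : Cfsg.Spor.HN)) w.2
    (p := 11) (Or.inr rfl) (by rw [Subgroup.orderOf_coe, hw])
  exact comm_gz_eleven h1 h2

/-- **`11` does not divide the order of the centralizer of an outer involution.** -/
theorem eleven {X : Type u} [Group X] (h : Spor.IsoHN X) {x : MulAut X} (hx : orderOf x = 2)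
    (hout : ¬ ∃ g, x = MulAut.conj g) : ¬ 11 ∣ Nat.card ↥(fixedSubgroup x) := by
  obtain ⟨e⟩ := h
  have h2 : orderOf (MulAut.congr e x) = 2 := by rw [MulEquiv.orderOf_eq, hx]
  have h3 : ¬ ∃ g, MulAut.congr e x = MulAut.conj g := by
    rintro ⟨g, hg⟩
    apply hout
    refine ⟨e.symm g, ?_⟩
    ext b
    have h4 := DFunLike.congr_fun hg (e b)
    change e (x (e.symm (e b))) = g * e b * g⁻¹ at h4
    rw [e.symm_apply_apply] at h4
    apply e.injective
    rw [h4, MulAut.conj_apply, map_mul, map_mul, map_inv, e.apply_symm_apply]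
  rw [Nat.card_congr (CpAut.fixEquiv e x).toEquiv]
  exact eleven_HN h2 h3

/-- the simplicity of `A₈` -/
theorem simple_A8 : IsSimpleGroup A8 := CTwoTab.simple_alt (by norm_num) (MulEquiv.refl _)

/-- **No component `A` with `A / Z(A) ≅ J₂`.** -/
theorem no_j2_HN {t : MulAut Cfsg.Spor.HN} (ht : orderOf t = 2) (hout : ¬ ∃ g, t = MulAut.conj g)
    {A : Subgroup ↥(fixedSubgroup t)} (hA : IsComponent A) : ¬ Spor.IsoJ2 (↥A ⧸ center ↥A) := by
  intro hJ
  have hfin : Finite Cfsg.Spor.HN := Cfsg.Agent.KFacts.HN.finite_HN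
  obtain ⟨D⟩ := exists_D
  have htt := orderOf_fix ht
  have hcJ : Nat.card (↥A ⧸ center ↥A) = 604800 := NotCT.Orders.j2 hJ
  have hAd : 604800 ∣ Nat.card ↥A := by
    rw [← hcJ]
    exact card_quotient_dvd_card _
  have hAX : Nat.card ↥A ∣ 273030912000000 := by
    rw [← card_HN]
    exact (card_subgroup_dvd_card A).trans (card_subgroup_dvd_card _)
  have : Fact (Nat.Prime 7) := ⟨by norm_num⟩
  obtain ⟨w, hw⟩ := exists_prime_orderOf_dvd_card' 7 ((show 7 ∣ 604800 by norm_num).trans hAd)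
  have hw1 : orderOf ((w : ↥(fixedSubgroup t)) : Cfsg.Spor.HN) = 7 := by
    rw [Subgroup.orderOf_coe, Subgroup.orderOf_coe, hw]
  obtain ⟨g, w0, k1, k2, k3, k4, k5⟩ := exists_normal D htt hout (w := ((w : ↥(fixedSubgroup t)) : Cfsg.Spor.HN))
    (w : ↥(fixedSubgroup t)).2 (p := 7) (Or.inl rfl) hw1
  obtain ⟨s, rfl⟩ := comm_gz (w := w0) k2.symm (n := 3) (by
    have h := pow_orderOf_eq_one w0
    rwa [k3] at h)
  have hfx : ∀ y : Cfsg.Spor.HN, (MulAut.conj g * t * (MulAut.conj g)⁻¹) y = y → t (g⁻¹ * y * g) = g⁻¹ * y * g := by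
    intro y hy
    rw [conj_apply'] at hy
    nth_rewrite 2 [← hy]
    group
  have hfa : ∀ a : A8, t (g⁻¹ * NormalH.ψ (iota a) * g) = g⁻¹ * NormalH.ψ (iota a) * g := by
    intro a
    apply hfx
    rw [k5 _ (iota_mem_K a)]
    congr 1
    rw [(z_iota a).eq, mul_inv_cancel_right]
  let F : A8 →* ↥(fixedSubgroup t) :=
    { toFun := fun a => ⟨g⁻¹ * NormalH.ψ (iota a) * g, hfa a⟩
      map_one' := Subtype.ext (by
        change g⁻¹ * NormalH.ψ (iota 1) * g = 1
        rw [map_one, map_one]; group)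
      map_mul' := fun a b => Subtype.ext (by
        change g⁻¹ * NormalH.ψ (iota (a * b)) * g = g⁻¹ * NormalH.ψ (iota a) * g * (g⁻¹ * NormalH.ψ (iota b) * g)
        rw [map_mul, map_mul]; group) }
  have hFs : F s = w := Subtype.ext k1.symm
  have h49 : ¬ 7 ^ 2 ∣ Nat.card ↥(fixedSubgroup t) := by
    intro h
    have h1 := h.trans (card_subgroup_dvd_card (fixedSubgroup t))
    rw [card_HN] at h1
    norm_num at h1
  have hnc := noncentral (H := ↥(fixedSubgroup t)) (A := A) (r := 7)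
    (fun h => h49 (h.trans (card_subgroup_dvd_card A))) (by rw [hcJ]; norm_num) w.2 (by rw [Subgroup.orderOf_coe, hw])
  have hAn : A.Normal := normal_of_prime (r := 7) (by norm_num) h49 hA w.2 (by rw [Subgroup.orderOf_coe, hw]) hnc
  have hs1 : s ≠ 1 := by
    rintro rfl
    rw [map_one, orderOf_one] at k3
    omega
  have hFA : ∀ a, F a ∈ A := by
    have hn : (A.comap F).Normal := hAn.comap F
    rcases simple_A8.eq_bot_or_eq_top_of_normal _ hn with h | h
    · exfalso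
      have h1 : s ∈ A.comap F := by
        change F s ∈ A
        rw [hFs]
        exact w.2
      rw [h, mem_bot] at h1
      exact hs1 h1
    · intro a
      have h1 : a ∈ A.comap F := by rw [h]; trivial
      exact h1
  let uC : ↥(fixedSubgroup t) := ⟨g⁻¹ * NormalH.ψ τ * g, hfx _ k4⟩
  have huu : uC * uC = 1 := Subtype.ext (by
    change g⁻¹ * NormalH.ψ τ * g * (g⁻¹ * NormalH.ψ τ * g) = 1
    have h1 : NormalH.ψ τ * NormalH.ψ τ = 1 := by rw [← map_mul, τ_mul_τ, map_one]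
    calc g⁻¹ * NormalH.ψ τ * g * (g⁻¹ * NormalH.ψ τ * g) = g⁻¹ * (NormalH.ψ τ * NormalH.ψ τ) * g := by group
      _ = 1 := by rw [h1]; group)
  have huF : ∀ a, uC * F a * uC⁻¹ = F a := by
    intro a
    rw [mul_inv_eq_iff_eq_mul]
    apply Subtype.ext
    change g⁻¹ * NormalH.ψ τ * g * (g⁻¹ * NormalH.ψ (iota a) * g) = g⁻¹ * NormalH.ψ (iota a) * g * (g⁻¹ * NormalH.ψ τ * g)
    calc g⁻¹ * NormalH.ψ τ * g * (g⁻¹ * NormalH.ψ (iota a) * g) = g⁻¹ * (NormalH.ψ τ * NormalH.ψ (iota a)) * g := by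
          group
      _ = g⁻¹ * (NormalH.ψ (iota a) * NormalH.ψ τ) * g := by rw [← map_mul, ← map_mul, τ_comm]
      _ = _ := by group
  let α : MulAut ↥A := MulAut.conjNormal uC
  have hαα : quoAut α * quoAut α = 1 := by
    ext q
    obtain ⟨a, rfl⟩ := QuotientGroup.mk_surjective q
    change QuotientGroup.mk (α (α a)) = QuotientGroup.mk a
    congr 1
    apply Subtype.ext
    change uC * (uC * (a : ↥(fixedSubgroup t)) * uC⁻¹) * uC⁻¹ = a
    calc uC * (uC * (a : ↥(fixedSubgroup t)) * uC⁻¹) * uC⁻¹ = (uC * uC) * a * (uC * uC)⁻¹ := by group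
      _ = a := by rw [huu]; group
  have hsimp : IsSimpleGroup (↥A ⧸ center ↥A) := hA.2.2
  have hna : ¬ IsMulCommutative (↥A ⧸ center ↥A) := by
    intro h
    let _ : CommGroup (↥A ⧸ center ↥A) :=
      { (inferInstance : Group (↥A ⧸ center ↥A)) with mul_comm := fun a b => h.1.1 a b }
    have hp := IsSimpleGroup.prime_card (α := ↥A ⧸ center ↥A)
    rw [hcJ] at hp
    exact absurd hp (by norm_num)
  have hα1 : quoAut α ≠ 1 := by
    intro h
    have h1 := quoAut_eq_one (by exact hA.2.1.1) h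
    have h2 : A.map (fixedSubgroup t).subtype ≤ centralizer ({g⁻¹ * NormalH.ψ τ * g} : Set Cfsg.Spor.HN) := by
      rintro _ ⟨a, ha, rfl⟩
      rw [mem_centralizer_singleton_iff]
      have h3 := congrArg (fun b : ↥A => ((b : ↥(fixedSubgroup t)) : Cfsg.Spor.HN)) (DFunLike.congr_fun h1 (⟨a, ha⟩ : ↥A))
      change (uC : Cfsg.Spor.HN) * (a : Cfsg.Spor.HN) * (uC : Cfsg.Spor.HN)⁻¹ = (a : Cfsg.Spor.HN) at h3
      exact (mul_inv_eq_iff_eq_mul.1 h3).symm
    have h3 := card_dvd_of_le h2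
    have h4 : Nat.card ↥(centralizer ({g⁻¹ * NormalH.ψ τ * g} : Set Cfsg.Spor.HN)) = 177408000 := by
      have h5 := card_centralizer_conj g⁻¹ (NormalH.ψ τ)
      rw [inv_inv] at h5
      rw [h5, card_ψτ]
    rw [h4, card_map_of_injective (fixedSubgroup t).subtype_injective] at h3
    have h5 := hAd.trans h3
    norm_num at h5
  let f : A8 →* ↥A ⧸ center ↥A := (QuotientGroup.mk' (center ↥A)).comp (F.codRestrict A hFA)
  have hf : Function.Injective f := by
    rw [← MonoidHom.ker_eq_bot_iff]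
    rcases simple_A8.eq_bot_or_eq_top_of_normal f.ker inferInstance with h | h
    · exact h
    · exfalso
      have h1 : s ∈ f.ker := by rw [h]; trivial
      rw [MonoidHom.mem_ker] at h1
      have h2 : (QuotientGroup.mk (⟨F s, hFA s⟩ : ↥A) : ↥A ⧸ center ↥A) = 1 := h1
      rw [QuotientGroup.eq_one_iff, mem_center_iff] at h2
      obtain ⟨a, ha, hne⟩ := hnc
      apply hne
      have h3 := congrArg Subtype.val (h2 ⟨a, ha⟩)
      change a * F s = F s * a at h3
      rw [hFs] at h3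
      exact h3.symm
  have hfix : ∀ a, quoAut α (f a) = f a := by
    intro a
    change quoAut α (QuotientGroup.mk (⟨F a, hFA a⟩ : ↥A)) = QuotientGroup.mk (⟨F a, hFA a⟩ : ↥A)
    rw [quoAut_mk]
    congr 1
    exact Subtype.ext (huF a)
  exact j2_no_alt hJ (CTwoTab.center_eq_bot_of_simple hna) hαα hα1 f hf hfix

/-- **No component `A` with `A / Z(A) ≅ J₂`.** -/
theorem no_j2 {X : Type u} [Group X] (h : Spor.IsoHN X) {x : MulAut X} (hx : orderOf x = 2)
    (hout : ¬ ∃ g, x = MulAut.conj g) {A : Subgroup ↥(fixedSubgroup x)} (hA : IsComponent A) :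
    ¬ Spor.IsoJ2 (↥A ⧸ center ↥A) := by
  intro hJ
  obtain ⟨e⟩ := h
  have h2 : orderOf (MulAut.congr e x) = 2 := by rw [MulEquiv.orderOf_eq, hx]
  have h3 : ¬ ∃ g, MulAut.congr e x = MulAut.conj g := by
    rintro ⟨g, hg⟩
    apply hout
    refine ⟨e.symm g, ?_⟩
    ext b
    have h4 := DFunLike.congr_fun hg (e b)
    change e (x (e.symm (e b))) = g * e b * g⁻¹ at h4
    rw [e.symm_apply_apply] at h4
    apply e.injective
    rw [h4, MulAut.conj_apply, map_mul, map_mul, map_inv, e.apply_symm_apply]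
  refine no_j2_HN h2 h3 (isComponent_map_equiv (CpAut.fixEquiv e x) hA) ?_
  obtain ⟨j⟩ := hJ
  exact ⟨(CTwoTab.quoEquiv (CTwoTab.subMap (CpAut.fixEquiv e x) A)).symm.trans j⟩

end Cfsg.Agent.H287.OutHN
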