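import Cfsg.Agent.H287.InnTwo
import Cfsg.Agent.CpAut.TwoAll
import Cfsg.Agent.CpAutJ4.Eleven
import Cfsg.Agent.J4Type.Aut22

/-!
# Components of the fixed points of outer involutions: `M₁₂`, `HS` (helper287)
-/

set_option autoImplicit false

namespace Cfsg.Agent.H287

open Subgroup Cfsg
open Cfsg.Agent.CTwoTab
open Cfsg.Agent.CpAut
open Cfsg.Agent.SignalizersComponents.Components

universe u v

/-- a normal subgroup containing all the squares -/
theorem HCard.of_sq {S : ℕ → ℕ → Prop} {H : Type u} [Group H] (N : Subgroup H) [N.Normal] (h : HCard S ↥N)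
    (hsq : ∀ g, g * g ∈ N) : HCard S H := by
  refine HCard.of_normal N ?_ h
  have h2 : ∀ q : H ⧸ N, q * q = 1 := by
    intro q
    obtain ⟨h, rfl⟩ := QuotientGroup.mk_surjective q
    rw [← QuotientGroup.mk_mul, QuotientGroup.eq_one_iff]
    exact hsq h
  refine Group.isSolvable_of_comm fun a b => ?_
  have ha : ∀ q : H ⧸ N, q⁻¹ = q := fun q => inv_eq_of_mul_eq_one_left (h2 q)
  calc a * b = (a * b)⁻¹ := (ha _).symm
    _ = b⁻¹ * a⁻¹ := mul_inv_rev a b
    _ = b * a := by rw [ha, ha]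

theorem hcard_alt {K : Type u} [Group K] {n : ℕ} (hn : 5 ≤ n) (e : K ≃* ↥(alternatingGroup (Fin n))) :
    HCard (fun a b => a = n.factorial / 2 ∧ b = n.factorial / 2) K := by
  have h1 := cards_alt hn e
  exact HCard.of_quasisimple (quasi_alt hn e) h1

section mtwelve

open Cfsg.Agent.CoThreeStd.MTwelve (H y)
open Cfsg.Agent.CoThreeStd.AutGamma (c c_y)
open Cfsg.Agent.CoThreeStd.AutMain (F0 c_fix c_F0 comm_y_F0)
open Cfsg.Agent.CoThreeStd.AutCent (exists_equiv_F0)
open Cfsg.Agent.CpAutTwo.MTwelve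

theorem hcard_m12_c : HCard (fun n m => n = 60 ∧ m = 60) ↥(fixedSubgroup c) := by
  have hN : (F0.subgroupOf (fixedSubgroup c)).Normal := by
    refine ⟨fun f hf h => ?_⟩
    rw [mem_subgroupOf] at hf ⊢
    exact conj_mem h.2 hf
  obtain ⟨e⟩ := exists_equiv_F0
  have e1 : ↥(F0.subgroupOf (fixedSubgroup c)) ≃* ↥(alternatingGroup (Fin 5)) := (subgroupOfEquivOfLe F0_le).trans e
  refine HCard.of_sq (F0.subgroupOf (fixedSubgroup c)) (hcard_alt le_rfl e1) fun g => ?_
  rw [mem_subgroupOf]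
  exact sq_mem g.2

theorem outCard_m12 {X : Type u} [Group X] (h : Spor.IsoM12 X) : OutCard (fun n m => n = 60 ∧ m = 60) X := by
  obtain ⟨f⟩ := h
  refine OutCard.of_equiv f.symm ?_
  intro x hx hout
  have h1 : x ∉ Cfsg.Agent.CoThreeStd.AutClass.Inn := fun ⟨g, hg⟩ => hout ⟨g, hg.symm⟩
  obtain ⟨m, hm⟩ := Cfsg.Agent.CoThreeStd.AutInv.outer_conj h1 (by rw [← pow_two, ← hx, pow_orderOf_eq_one])
  exact hcard_conj m hm hcard_m12_c

end mtwelve

section hs

open Cfsg.Agent.HN Cfsg.Agent.HN.Pres Cfsg.Agent.HN.HS100 Cfsg.Agent.HN.P1408 Cfsg.Agent.HN.H0Basic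
open Cfsg.Agent.HN.Local Cfsg.Agent.HN.Iota
open Cfsg.Agent.KFacts.HS
open Cfsg.Agent.CpAutTwo.HS

variable {L : Type u} [Group L] (D : Cfsg.Agent.KFacts.HS.Mod L)

theorem hcard_hs_z : HCard (fun n m => n = 20160 ∧ m = 20160) ↥(fixedSubgroup (D.au gz)) := by
  have hfin : Finite L := KFacts.HS.DFour.fin D
  have hc2 : ∀ {g : L}, g ∈ fixedSubgroup (D.au gz) → g * g ∈ (al D).range := by
    intro g hg
    obtain ⟨k, hk, rfl⟩ := KFacts.HS.DFour.surj' D g
    rw [mem_fix] at hg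
    have h1 : gz * (k * k) * gz⁻¹ = k * k := by
      have e : gz * (k * k) * gz⁻¹ = (gz * k * gz⁻¹) * (gz * k * gz⁻¹) := by group
      rw [e]
      rcases hg with h | h
      · rw [h]
      · rw [h]
        calc k * τ * (k * τ) = k * (τ * k) * τ := by group
          _ = k * (k * τ) * τ := by rw [← τ_comm k]
          _ = k * k * (τ * τ) := by group
          _ = k * k := by rw [τ_mul_τ, mul_one]
    rw [← map_mul]
    exact mem_al D (K.mul_mem hk hk) h1
  have hN : ((al D).range.subgroupOf (fixedSubgroup (D.au gz))).Normal := by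
    refine ⟨fun n hn g => ?_⟩
    rw [mem_subgroupOf] at hn ⊢
    obtain ⟨s, hs⟩ := hn
    obtain ⟨k, hk, hgk⟩ := KFacts.HS.DFour.surj' D (g : L)
    have hg : D.π ⟨k, hk⟩ ∈ fixedSubgroup (D.au gz) := hgk ▸ g.2
    rw [mem_fix] at hg
    have hk' : k * iota s * k⁻¹ ∈ K := K.mul_mem (K.mul_mem hk (iota_mem_K s)) (K.inv_mem hk)
    have h1 : gz * (k * iota s * k⁻¹) * gz⁻¹ = k * iota s * k⁻¹ := by
      have e : gz * (k * iota s * k⁻¹) * gz⁻¹ = (gz * k * gz⁻¹) * (gz * iota s * gz⁻¹) * (gz * k * gz⁻¹)⁻¹ := by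
        group
      have hz : gz * iota s * gz⁻¹ = iota s := by rw [(z_iota s).eq, mul_inv_cancel_right]
      rw [e, hz]
      rcases hg with h | h
      · rw [h]
      · rw [h, mul_inv_rev]
        calc k * τ * iota s * (τ⁻¹ * k⁻¹) = k * (τ * iota s * τ⁻¹) * k⁻¹ := by group
          _ = k * iota s * k⁻¹ := by rw [← τ_comm, mul_inv_cancel_right]
    have h2 := mem_al D hk' h1
    have h3 : ((g * n * g⁻¹ : ↥(fixedSubgroup (D.au gz))) : L) = D.π ⟨k * iota s * k⁻¹, hk'⟩ := by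
      change (g : L) * (n : L) * (g : L)⁻¹ = _
      rw [hgk, show (n : L) = D.π ⟨iota s, iota_mem_K s⟩ from hs.symm, ← map_mul, ← map_inv, ← map_mul]
      rfl
    rw [h3]
    exact h2
  have e : ↥((al D).range.subgroupOf (fixedSubgroup (D.au gz))) ≃* A8 :=
    (subgroupOfEquivOfLe (al_le D)).trans (MonoidHom.ofInjective (al_inj D)).symm
  refine HCard.of_sq _ (hcard_alt (by norm_num) e) fun g => ?_
  rw [mem_subgroupOf]
  exact hc2 g.2

theorem hcard_hs_d : HCard (fun n _ => n ≤ 960) ↥(fixedSubgroup (D.au Syl.d)) := by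
  have hfin : Finite L := KFacts.HS.DFour.fin D
  have hcd : 2 * Nat.card ↥(D.im Cd) = Nat.card ↥Cd := D.card_im τ_mem_Cd inf_le_right
  have hle := card_Cd
  intro K hK
  have h1 : K ≤ (D.im Cd).subgroupOf (fixedSubgroup (D.au Syl.d)) := by
    refine CTwoTab.perfect_le_of_sq (C := ⊤) ?_ K le_top (component_commutator_self hK)
    intro q _
    exact mem_subgroupOf.2 (sq_mem D q.2)
  have h2 : Nat.card ↥K ≤ Nat.card ↥(D.im Cd) := by
    refine (Nat.le_of_dvd Nat.card_pos (card_dvd_of_le h1)).trans ?_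
    rw [Nat.card_congr (subgroupOfEquivOfLe (im_le D)).toEquiv]
  omega

theorem outCard_hs {X : Type u} [Group X] (h : Spor.IsoHS X) :
    OutCard (fun n m => (n = 20160 ∧ m = 20160) ∨ n ≤ 960) X := by
  obtain ⟨D⟩ := exists_mod h
  intro x hx hout
  obtain ⟨a, h | h⟩ := outer_cases D x hx hout
  · exact (hcard_conj_aut a h (hcard_hs_z D)).mono fun n m h => Or.inl h
  · exact (hcard_conj_aut a h (hcard_hs_d D)).mono fun n m h => Or.inr h

end hs


section m22

open Cfsg.Agent.J4Type.Aut22 (D22 mem_D22_iff M22_le_D22 exists_conj eq_one_of_centralizes)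

theorem eleven_not_dvd {x : MulAut Spor.M22} (hx : orderOf x = 2) : ¬ 11 ∣ Nat.card ↥(fixedSubgroup x) := by
  intro h11
  obtain ⟨g, hg, hgx⟩ := exists_conj x
  have hfin : Finite Spor.M22 := inferInstance
  have hxx : ∀ m, x (x m) = m := fun m => by
    have h1 : x * x = 1 := by rw [← pow_two, ← hx, pow_orderOf_eq_one]
    exact DFunLike.congr_fun h1 m
  have hgg : g * g = 1 := by
    refine eq_one_of_centralizes (D22.mul_mem hg hg) fun m => ?_
    have h1 := hgx (x m)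
    rw [hxx, hgx m] at h1
    rw [mul_inv_rev]
    calc g * g * (m : Equiv.Perm GolayPt) * (g⁻¹ * g⁻¹) = g * (g * m * g⁻¹) * g⁻¹ := by group
      _ = m := h1.symm
  have hg1 : g ≠ 1 := by
    rintro rfl
    have h1 : x = 1 := by
      ext m : 1
      apply Subtype.ext
      rw [hgx m, one_mul, inv_one, mul_one]
      rfl
    rw [h1, orderOf_one] at hx
    omega
  have : Fact (Nat.Prime 11) := ⟨by norm_num⟩
  obtain ⟨c, hc⟩ := exists_prime_orderOf_dvd_card' 11 h11
  have h1 := hgx (c : Spor.M22)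
  have h2 : x (c : Spor.M22) = c := c.2
  rw [h2, eq_mul_inv_iff_mul_eq] at h1
  refine hg1 (CpAutJ4.Eleven.eq_one (x := ((c : Spor.M22) : Equiv.Perm GolayPt)) (t := g) ?_ ?_
    ((mem_D22_iff g).1 hg).1 hgg h1.symm)
  · exact ((mem_D22_iff _).1 (M22_le_D22 (c : Spor.M22).2)).1
  · rw [Subgroup.orderOf_coe, Subgroup.orderOf_coe, hc]

theorem outCard_m22 {X : Type u} [Group X] (h : Spor.IsoM22 X) :
    OutCard (fun n _ => n ∣ 443520 ∧ ¬ 11 ∣ n) X := by
  have hc := NotCT.Orders.m22 h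
  obtain ⟨f⟩ := h
  refine OutCard.of_equiv f.symm ?_
  intro x hx _ K hK
  have h1 : Nat.card ↥K ∣ Nat.card ↥(fixedSubgroup x) := card_subgroup_dvd_card K
  refine ⟨(h1.trans (card_subgroup_dvd_card _)).trans ?_, fun h11 => eleven_not_dvd hx (h11.trans h1)⟩
  rw [← hc, Nat.card_congr f.toEquiv]

end m22

end Cfsg.Agent.H287
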