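import Cfsg.Agent.H287.InnTwo
import Cfsg.Agent.H992.Stages.CompTools
import Cfsg.Agent.S2131

/-!
# Existence of components in the centralizers of involutions (helper287)

`M₁₂`, `J₁`, `J₂` : a component of order 60; `Suz` : a component of order 20160.
-/

set_option autoImplicit false

namespace Cfsg.Agent.H287

open Subgroup Cfsg
open Cfsg.Agent.CTwoTab
open Cfsg.Agent.CpAut
open Cfsg.Agent.SignalizersComponents.Components
open Cfsg.Agent.H992.Stages (isComponentOf_of_perf)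

universe u v

theorem not_compCard {X : Type u} [Group X] {m : ℕ} {t : X} (ht : orderOf t = 2) {K : Subgroup X}
    (hK : IsComponentOf K (centralizer ({t} : Set X))) (hm : Nat.card (↥K ⧸ center ↥K) = m) :
    ¬ CompCard (fun _ k => k ≠ m) X := fun h => h t ht K hK hm

theorem has_m12 {X : Type u} [Group X] (h : Spor.IsoM12 X) : ¬ CompCard (fun _ k => k ≠ 60) X := by
  obtain ⟨f⟩ := h
  intro hc
  have hc' := hc.of_equiv f
  revert hc'
  open Cfsg.Agent.CoThreeStd.MTwelve Cfsg.Agent.AschSpor.MTwelve in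
  refine not_compCard (t := y) (K := N) ?_ ?_ (cards_alt le_rfl eN.symm).2
  · exact orderOf_eq_prime (by rw [pow_two]; exact y_sq) Cfsg.Agent.CoThreeStd.MTwelve.y_ne_one
  · refine isComponentOf_of_perf (quasi_alt le_rfl (Cfsg.Agent.AschSpor.MTwelve.eN).symm)
      Cfsg.Agent.AschSpor.MTwelve.N_le fun P hP hperf => perfect_le_of_sq (fun g hg => ?_) P hP hperf
    have hev : ∀ σ : Equiv.Perm (Fin 5), Cfsg.Agent.CoThreeStd.MTwelve.w (σ * σ) ∈ Cfsg.Agent.AschSpor.MTwelve.N :=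
      fun σ => ⟨σ * σ, by
          change σ * σ ∈ alternatingGroup (Fin 5)
          rw [Equiv.Perm.mem_alternatingGroup, map_mul, Int.units_mul_self], rfl⟩
    obtain ⟨σ, rfl | rfl⟩ := Cfsg.Agent.CoThreeStd.MTwelve.cent_y g (mem_centralizer_singleton_iff.1 hg)
    · rw [← map_mul]
      exact hev σ
    · have h1 : Cfsg.Agent.CoThreeStd.MTwelve.y * Cfsg.Agent.CoThreeStd.MTwelve.w σ *
          (Cfsg.Agent.CoThreeStd.MTwelve.y * Cfsg.Agent.CoThreeStd.MTwelve.w σ) =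
          Cfsg.Agent.CoThreeStd.MTwelve.w (σ * σ) := by
        rw [map_mul]
        calc Cfsg.Agent.CoThreeStd.MTwelve.y * Cfsg.Agent.CoThreeStd.MTwelve.w σ *
              (Cfsg.Agent.CoThreeStd.MTwelve.y * Cfsg.Agent.CoThreeStd.MTwelve.w σ)
            = Cfsg.Agent.CoThreeStd.MTwelve.y * (Cfsg.Agent.CoThreeStd.MTwelve.w σ *
                Cfsg.Agent.CoThreeStd.MTwelve.y) * Cfsg.Agent.CoThreeStd.MTwelve.w σ := by group
          _ = Cfsg.Agent.CoThreeStd.MTwelve.y * (Cfsg.Agent.CoThreeStd.MTwelve.y *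
                Cfsg.Agent.CoThreeStd.MTwelve.w σ) * Cfsg.Agent.CoThreeStd.MTwelve.w σ := by
              rw [Cfsg.Agent.CoThreeStd.MTwelve.y_comm]
          _ = (Cfsg.Agent.CoThreeStd.MTwelve.y * Cfsg.Agent.CoThreeStd.MTwelve.y) *
                (Cfsg.Agent.CoThreeStd.MTwelve.w σ * Cfsg.Agent.CoThreeStd.MTwelve.w σ) := by group
          _ = _ := by rw [Cfsg.Agent.CoThreeStd.MTwelve.y_sq, one_mul]
      rw [h1]
      exact hev σ

section jtwo

open Cfsg.Agent.J2Type.Model Cfsg.Agent.J2Type.SPFacts Cfsg.Agent.J2Type.CStruct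
open Cfsg.Agent.J3Type.OneClass Cfsg.Agent.J2Type.Base Cfsg.Agent.KFacts.J2.Basic
open Cfsg.Agent.Co2Type.Quad Cfsg.Agent.KFacts.AutLarge Cfsg.Agent.KFacts.J3Sheet
open Cfsg.Agent.KFacts Cfsg.Agent.OddHalf.D4.Spor Cfsg.Agent.OddHalf.D4.Spor.JTwo

theorem has_j2 {X : Type u} [Group X] [Finite X] (h : Spor.IsoJ2 X) : ¬ CompCard (fun _ k => k ≠ 60) X := by
  obtain ⟨t, u, Q, v, ρ, D⟩ := Cfsg.Agent.KFacts.J2.Facts.exists_dat_of h
  obtain ⟨f, U, V, H0, F⟩ := Cfsg.Agent.J2Type.CentU.main D.F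
  obtain ⟨e⟩ := equiv_H0 D F
  refine not_compCard (t := u) (K := H0) ?_ ?_ (cards_alt le_rfl e).2
  · exact D.F.hu
  · exact isComponentOf_of_perf (quasi_alt le_rfl e) F.str.le
        (fun P hP hperf => perfect_le_of_sq (fun a ha => F.str.sq_mem a ha) P hP hperf)

end jtwo

theorem has_suz {X : Type u} [Group X] (h : Spor.IsoSuz X) : ¬ CompCard (fun _ k => k ≠ 20160) X := by
  obtain ⟨f⟩ := h
  intro hc
  have hc' := hc.of_equiv f
  revert hc'
  have hfin := CTwoTab.Suz.finSuz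
  refine not_compCard (t := KFacts.SuzLFour.e0) (K := KFacts.SuzLFour.L) ?_ ?_ ?_
  · exact orderOf_eq_prime (by rw [pow_two]; exact KFacts.SuzLFour.e0_sq) KFacts.SuzLFour.e0_ne
  · exact isComponentOf_of_perf CTwoTab.Suz.quasi_L CTwoTab.Suz.L_le_CE CTwoTab.Suz.perfect_le_L
  · have := CTwoTab.SuzPlane.simple_L
    rw [CTwoTab.center_eq_bot_of_simple CTwoTab.Suz.na_L, Nat.card_congr QuotientGroup.quotientBot.toEquiv]
    exact KFacts.SuzTwoB.card_L

theorem has_j1 {X : Type u} [Group X] (h : Spor.IsoJ1 X) : ¬ CompCard (fun _ k => k ≠ 60) X := by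
  obtain ⟨f⟩ := h
  intro hc
  have hc' := hc.of_equiv f
  obtain ⟨t, ht, ⟨e⟩⟩ := S2131.result
  -- the subgroup `A₅`
  let ι : ↥(alternatingGroup (Fin 5)) →* Spor.J1 :=
    ((centralizer ({t} : Set Spor.J1)).subtype.comp e.symm.toMonoidHom).comp (MonoidHom.inr _ _)
  have hι : Function.Injective ι :=
    ((centralizer ({t} : Set Spor.J1)).subtype_injective.comp e.symm.injective).comp (fun a b h => congrArg Prod.snd h)
  have eN : ↥ι.range ≃* ↥(alternatingGroup (Fin 5)) := (MonoidHom.ofInjective hι).symm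
  revert hc'
  refine not_compCard (t := t) (K := ι.range) ht ?_ (cards_alt le_rfl eN).2
  refine isComponentOf_of_perf (quasi_alt le_rfl eN) ?_ ?_
  · rintro _ ⟨a, rfl⟩
    exact (e.symm (MonoidHom.inr _ _ a)).2
  · refine fun P hP hperf => perfect_le_of_sq (fun g hg => ?_) P hP hperf
    refine ⟨(e ⟨g, hg⟩).2 * (e ⟨g, hg⟩).2, ?_⟩
    have h1 : ((MonoidHom.inr (Multiplicative (ZMod 2)) ↥(alternatingGroup (Fin 5))) ((e ⟨g, hg⟩).2 * (e ⟨g, hg⟩).2)) =
        e (⟨g, hg⟩ * ⟨g, hg⟩) := by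
      rw [map_mul e]
      apply Prod.ext
      · change (1 : Multiplicative (ZMod 2)) = (e ⟨g, hg⟩).1 * (e ⟨g, hg⟩).1
        generalize (e ⟨g, hg⟩).1 = c
        revert c
        decide
      · rfl
    change ((e.symm (MonoidHom.inr _ _ ((e ⟨g, hg⟩).2 * (e ⟨g, hg⟩).2)) : ↥(centralizer ({t} : Set Spor.J1))) : Spor.J1) = g * g
    rw [h1, e.symm_apply_apply]
    rfl

end Cfsg.Agent.H287
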