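import Cfsg.Agent.H287.FixCard

/-!
# Components of a group with a central subgroup and simple quotient (helper287)

`HCard.of_central` : if `Z ≤ Z(H)` and `H / Z` is simple non-abelian, every component `K` of `H` has
`|K / Z(K)| = |H / Z|` and `|K|` divides `|H|`.
-/

set_option autoImplicit false

namespace Cfsg.Agent.H287

open Subgroup Cfsg
open Cfsg.Agent.CTwoTab
open Cfsg.Agent.SignalizersComponents.Components

universe u v

theorem not_comm_quot {H : Type u} [Group H] {Z : Subgroup H} [Z.Normal] (hna : ¬ IsMulCommutative (H ⧸ Z)) :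
    ¬ ∀ a b : H ⧸ Z, a * b = b * a := fun h => hna ⟨⟨h⟩⟩

/-- a simple group has no proper non-trivial subnormal subgroup -/
theorem subnormal_simple {H : Type u} [Group H] [IsSimpleGroup H] {M : Subgroup H} (h : M.IsSubnormal) :
    M = ⊥ ∨ M = ⊤ := by
  induction h with
  | top => exact Or.inr rfl
  | step A B hAB hB hn ih =>
    rcases ih with rfl | rfl
    · exact Or.inl (le_bot_iff.1 hAB)
    · have h1 : A.Normal := by
        constructor
        intro n hn1 g
        have h2 := hn.conj_mem ⟨n, Subgroup.mem_top n⟩ (by rw [mem_subgroupOf]; exact hn1) ⟨g, Subgroup.mem_top g⟩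
        rw [mem_subgroupOf] at h2
        exact h2
      exact h1.eq_bot_or_eq_top

/-- the centre of a component, and its quotient, when `H / Z` is simple and `Z` central -/
theorem comp_central {H : Type u} [Group H] {Z : Subgroup H} [Z.Normal] (hZ : Z ≤ center H)
    [IsSimpleGroup (H ⧸ Z)] (hna : ¬ IsMulCommutative (H ⧸ Z)) {K : Subgroup H} (hK : IsComponent K) :
    K ⊔ Z = ⊤ ∧ Nonempty (↥K ⧸ center ↥K ≃* H ⧸ Z) := by
  have h1 : (K.map (QuotientGroup.mk' Z)).IsSubnormal :=
    hK.1.map (QuotientGroup.mk'_surjective Z)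
  have h2 : K.map (QuotientGroup.mk' Z) ≠ ⊥ := by
    intro h
    rw [Subgroup.map_eq_bot_iff, QuotientGroup.ker_mk'] at h
    apply quasisimple_not_isMulCommutative hK.2
    refine ⟨⟨fun a b => Subtype.ext ?_⟩⟩
    exact (mem_center_iff.1 (hZ (h a.2)) b).symm
  have h3 : K.map (QuotientGroup.mk' Z) = ⊤ := (subnormal_simple h1).resolve_left h2
  have h4 : K ⊔ Z = ⊤ := by
    have h5 : (K.map (QuotientGroup.mk' Z)).comap (QuotientGroup.mk' Z) = K ⊔ Z := by
      rw [comap_map_eq, QuotientGroup.ker_mk']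
    rw [← h5, h3, comap_top]
  refine ⟨h4, ?_⟩
  let f : ↥K →* H ⧸ Z := (QuotientGroup.mk' Z).comp K.subtype
  have hf : Function.Surjective f := by
    intro q
    have h5 : q ∈ K.map (QuotientGroup.mk' Z) := by rw [h3]; exact Subgroup.mem_top q
    obtain ⟨k, hk, rfl⟩ := h5
    exact ⟨⟨k, hk⟩, rfl⟩
  have hker : f.ker = center ↥K := by
    apply le_antisymm
    · intro k hk
      have h5 : (k : H) ∈ Z := (QuotientGroup.eq_one_iff _).1 hk
      exact mem_center_iff.2 fun g => Subtype.ext (mem_center_iff.1 (hZ h5) g)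
    · intro k hk
      have h5 : f k ∈ center (H ⧸ Z) := by
        rw [mem_center_iff]
        intro q
        obtain ⟨g, rfl⟩ := hf q
        rw [← map_mul, ← map_mul, mem_center_iff.1 hk g]
      rw [CTwoTab.center_eq_bot_of_simple hna] at h5
      exact h5
  exact ⟨(QuotientGroup.quotientMulEquivOfEq hker.symm).trans (QuotientGroup.quotientKerEquivOfSurjective f hf)⟩

/-- `H / Z` simple non-abelian, `Z` central -/
theorem HCard.of_central {H : Type u} [Group H] {Z : Subgroup H} [Z.Normal] (hZ : Z ≤ center H)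
    [IsSimpleGroup (H ⧸ Z)] (hna : ¬ IsMulCommutative (H ⧸ Z)) :
    HCard (fun n m => m = Nat.card (H ⧸ Z) ∧ n ∣ Nat.card H ∧ m ∣ n) H := by
  intro K hK
  obtain ⟨-, ⟨e⟩⟩ := comp_central hZ hna hK
  exact ⟨Nat.card_congr e.toEquiv, card_subgroup_dvd_card K, card_quotient_dvd_card (center ↥K)⟩

end Cfsg.Agent.H287
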