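import Cfsg.Agent.H287.FrameComp
import Cfsg.Agent.H287.Central
import Cfsg.Agent.CpAut.Fi22Row

/-!
# `Fi₂₂`: the components of the centralizers of the outer involutions (helper287)

`HComp T S H` : a component `A` of even order of `H` satisfies `T |A| |A / Z(A)|`, or `A / Z(A)` is simple and satisfies
`CompCard S` (the components of the centralizers of its involutions satisfy `S`).

`hcomp_outer` : `|A / Z(A)| = |Sp₆(2)|` or the components `K` of the involution centralizers of `A / Z(A)` satisfy
`|K / Z(K)| = |Sp₆(2)|`.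
-/

set_option autoImplicit false

namespace Cfsg.Agent.H287

open Subgroup Cfsg
open Cfsg.Agent.CTwoTab
open Cfsg.Agent.CpAut
open Cfsg.Agent.SignalizersComponents.Components

universe u v

/-- see the head of the file -/
def HComp (T S : ℕ → ℕ → Prop) (H : Type*) [Group H] : Prop :=
  ∀ A : Subgroup H, IsComponent A → 2 ∣ Nat.card ↥A →
    T (Nat.card ↥A) (Nat.card (↥A ⧸ center ↥A)) ∨
      (IsSimpleGroup (↥A ⧸ center ↥A) ∧ CompCard S (↥A ⧸ center ↥A))

theorem HComp.congr {T S : ℕ → ℕ → Prop} {H : Type u} {H' : Type v} [Group H] [Group H'] (e : H ≃* H')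
    (h : HComp T S H) : HComp T S H' := by
  intro K hK h2
  have h3 := h _ (isComponent_map_equiv e.symm hK)
    (by rwa [Nat.card_congr (subMap e.symm K).toEquiv] at h2)
  have e1 : (↥(K.map e.symm.toMonoidHom) ⧸ center ↥(K.map e.symm.toMonoidHom)) ≃* (↥K ⧸ center ↥K) :=
    (quoEquiv (subMap e.symm K)).symm
  rcases h3 with h3 | ⟨h3, h4⟩
  · left
    rwa [Nat.card_congr (subMap e.symm K).toEquiv, ← Nat.card_congr e1.toEquiv]
  · right
    exact ⟨e1.symm.isSimpleGroup, h4.of_equiv e1⟩

theorem HComp.of_frame {T S : ℕ → ℕ → Prop} {H : Type u} [Group H] [Finite H]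
    (hcore : ∀ u : H, orderOf u = 2 → pPrimeCore 2 ↥(centralizer ({u} : Set H)) = ⊥)
    (hloc : ∀ u : H, orderOf u = 2 → HCard S ↥(centralizer ({u} : Set H))) (hT : ∀ n k m, S n m → T k m) :
    HComp T S H := by
  intro A hA h2
  rcases frame_comp hcore hloc hA h2 with ⟨n, -, h⟩ | h
  · exact Or.inl (hT _ _ _ h)
  · exact Or.inr h

theorem not_comm_of_card {X : Type u} [Group X] [IsSimpleGroup X] (h : ¬ (Nat.card X).Prime) :
    ¬ IsMulCommutative X := by
  intro hc
  let _ : CommGroup X := { (inferInstance : Group X) with mul_comm := hc.is_comm.comm }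
  exact h (IsSimpleGroup.prime_card (α := X))

namespace OutFi22

open Cfsg.Agent.R01.FiFusion Cfsg.Agent.R01.FiFacts Cfsg.Agent.StdFi22.TLev
open Cfsg.Agent.OddHalf.D8.Fi22
open Cfsg.Agent.CpAut.Fi22Row
open Cfsg.Agent.CpAut.UnitFix (Sp6)

/-- the order of `Sp₆(2)` -/
abbrev P : ℕ → ℕ → Prop := fun _ m => m = 1451520

theorem hcomp {x : MulAut Spor.Fi22} (hx : orderOf x = 2) (hout : ¬ ∃ g, x = MulAut.conj g) :
    HComp P P ↥(fixedSubgroup x) := by
  have hfin : Finite Spor.Fi22 := R01.Fi22Facts.finite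
  have hxx : x * x = 1 := by rw [← pow_two, ← hx, pow_orderOf_eq_one]
  have hsq : ∀ (u : ↥(fixedSubgroup x)) (hu : orderOf u = 2),
      (⟨u, mem_centralizer_singleton_iff.2 rfl⟩ : ↥(centralizer ({u} : Set ↥(fixedSubgroup x)))) *
        ⟨u, mem_centralizer_singleton_iff.2 rfl⟩ = 1 ∧
      (⟨u, mem_centralizer_singleton_iff.2 rfl⟩ : ↥(centralizer ({u} : Set ↥(fixedSubgroup x)))) ≠ 1 := by
    intro u hu
    constructor
    · apply Subtype.ext
      change u * u = 1
      rw [← pow_two, ← hu, pow_orderOf_eq_one]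
    · intro h
      have h1 : u = 1 := congrArg Subtype.val h
      rw [h1, orderOf_one] at hu
      omega
  refine HComp.of_frame (fun u hu => ?_) (fun u hu => ?_) fun _ _ _ h => h
  · obtain ⟨h1, h2⟩ := hsq u hu
    rcases cases hxx hout u hu with h | ⟨θ, hθ, hk⟩
    · exact TwoAbs.core_of_ct h
    · exact SpCover.core hθ h1 h2 hk
  · rcases cases hxx hout u hu with h | ⟨θ, hθ, hk⟩
    · exact HCard.of_ct h
    · have hs := UnitFix.simple_sp6
      have hZ : θ.ker ≤ center ↥(centralizer ({u} : Set ↥(fixedSubgroup x))) := by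
        intro c hc
        rcases (hk c).1 hc with rfl | rfl
        · exact one_mem _
        · rw [mem_center_iff]
          intro g
          apply Subtype.ext
          exact mem_centralizer_singleton_iff.1 g.2
      have e := QuotientGroup.quotientKerEquivOfSurjective θ hθ
      have hsq : IsSimpleGroup (↥(centralizer ({u} : Set ↥(fixedSubgroup x))) ⧸ θ.ker) := e.isSimpleGroup
      have hcard : Nat.card (↥(centralizer ({u} : Set ↥(fixedSubgroup x))) ⧸ θ.ker) = 1451520 := by
        rw [Nat.card_congr e.toEquiv, UnitFix.card_sp6]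
      have hna : ¬ IsMulCommutative (↥(centralizer ({u} : Set ↥(fixedSubgroup x))) ⧸ θ.ker) :=
        not_comm_of_card (by rw [hcard]; norm_num)
      exact (HCard.of_central hZ hna).mono fun n m h => h.1.trans hcard

end OutFi22

end Cfsg.Agent.H287
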