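import Cfsg.Agent.CpAut.TwoOuter
import Cfsg.Agent.H287.FixCard

/-!
# `Suz`: the order of the centralizer of an outer involutory automorphism (helper287)

`dvd_card` : `64` divides `|C_X(x)|` for an outer involutory automorphism `x` of `X = Suz`.
-/

set_option autoImplicit false

namespace Cfsg.Agent.H287

open Subgroup Cfsg
open Cfsg.Agent.CpAut

universe u v

/-- `n` divides the order of the centralizer of every outer involutory automorphism of `X` -/
def OutDvd (n : ℕ) (X : Type*) [Group X] : Prop :=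
  ∀ x : MulAut X, orderOf x = 2 → (¬ ∃ g : X, x = MulAut.conj g) → n ∣ Nat.card ↥(fixedSubgroup x)

theorem OutDvd.of_equiv {n : ℕ} {X : Type u} {Y : Type v} [Group X] [Group Y] (e : X ≃* Y) (h : OutDvd n X) :
    OutDvd n Y := by
  intro y hy hout
  have h1 : MulAut.congr e ((MulAut.congr e).symm y) = y := (MulAut.congr e).apply_symm_apply y
  have h2 : orderOf ((MulAut.congr e).symm y) = 2 := by rw [MulEquiv.orderOf_eq, hy]
  have h3 : ¬ ∃ g : X, (MulAut.congr e).symm y = MulAut.conj g := by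
    rintro ⟨g, hg⟩
    apply hout
    refine ⟨e g, ?_⟩
    rw [← h1, hg]
    ext b
    change e (g * e.symm b * g⁻¹) = e g * b * (e g)⁻¹
    rw [map_mul, map_mul, e.apply_symm_apply, map_inv]
  have h4 := h _ h2 h3
  rw [Nat.card_congr (fixEquiv e ((MulAut.congr e).symm y)).toEquiv] at h4
  rwa [h1] at h4

namespace FixSuz

open Cfsg.Agent.CpAutTwo.Suz
open Cfsg.Agent.KFacts.SuzRho Cfsg.Agent.KFacts.SuzFix

local notation "σσ" => Cfsg.Agent.KFacts.SuzRho.sigma

theorem card_conj {X : Type u} [Group X] (g : X) {x y : MulAut X} (h : y = MulAut.conj g * x * (MulAut.conj g)⁻¹) :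
    Nat.card ↥(fixedSubgroup y) = Nat.card ↥(fixedSubgroup x) := by
  have h1 : MulAut.congr (MulAut.conj g) x = MulAut.conj g * x * (MulAut.conj g)⁻¹ := rfl
  rw [h, ← h1]
  exact (Nat.card_congr (fixEquiv (MulAut.conj g) x).toEquiv).symm

theorem suz : OutDvd 64 Spor.Suz := by
  intro x hx hout
  have hxx : x * x = 1 := by rw [← pow_two, ← hx, pow_orderOf_eq_one]
  rcases KFacts.SuzInvol.outer hxx (fun s hs => hout ⟨s, hs⟩) with ⟨g, h⟩ | ⟨g, h⟩
  · rw [card_conj g h]
    have hle : H wJ ≤ fixedSubgroup rho := by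
      rw [eq_stab]
      exact fun g hg => rho_J hg
    have h1 := card_dvd_of_le hle
    rw [card_HJ] at h1
    exact dvd_trans (by norm_num) h1
  · have h1 : x = MulAut.conj (g * (SporadicRecognition.SuzOrder.el [.e, .d])⁻¹) * σσ *
        (MulAut.conj (g * (SporadicRecognition.SuzOrder.el [.e, .d])⁻¹))⁻¹ := by
      rw [h, KFacts.SuzInvol.sigma_eq, map_mul, map_inv]
      group
    rw [card_conj _ h1, card_sigma]
    norm_num

end FixSuz

/-- **`64 ∣ |C_X(x)|` for the outer involutory automorphisms of `Suz`** -/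
theorem dvd_suz {X : Type u} [Group X] (h : Spor.IsoSuz X) {x : MulAut X} (hx : orderOf x = 2)
    (hout : ¬ ∃ g : X, x = MulAut.conj g) : 64 ∣ Nat.card ↥(fixedSubgroup x) := by
  obtain ⟨e⟩ := h
  exact FixSuz.suz.of_equiv e.symm x hx hout

end Cfsg.Agent.H287
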