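import Cfsg.Agent.H287.SylFix
import Cfsg.Agent.H287.FixSuz
import Cfsg.Agent.CpAut.Fi22Row

/-!
# `Fi₂₂`: an elementary abelian subgroup of order 16 in the centralizer of an involutory automorphism (helper287)

The transpositions contained in a Sylow 2-subgroup `S` commute and generate an elementary abelian group of order at
least `2 ^ 7`, invariant under every automorphism leaving `S` invariant.
-/

set_option autoImplicit false

namespace Cfsg.Agent.H287

open Subgroup Cfsg
open Cfsg.Agent.CpAut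

universe u v

/-- an elementary abelian subgroup of order `n` -/
def HasElem (n : ℕ) {X : Type*} [Group X] (H : Subgroup X) : Prop :=
  ∃ E : Subgroup X, E ≤ H ∧ (∀ a ∈ E, ∀ b ∈ E, a * b = b * a) ∧ (∀ a ∈ E, a * a = 1) ∧ Nat.card ↥E = n

/-- `|E| ≤ |C_E(φ)| ^ 2` -/
theorem card_le_sq {X : Type u} [Group X] [Finite X] {φ : MulAut X} (hφ : φ * φ = 1) {E : Subgroup X}
    (hinv : ∀ e ∈ E, φ e ∈ E) (hc : ∀ a ∈ E, ∀ b ∈ E, a * b = b * a) (hsq : ∀ a ∈ E, a * a = 1) :
    Nat.card ↥E ≤ Nat.card ↥(E ⊓ fixedSubgroup φ : Subgroup X) ^ 2 := by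
  let f : ↥E →* X :=
    { toFun := fun e => e * φ e
      map_one' := by rw [OneMemClass.coe_one, map_one, one_mul]
      map_mul' := fun a b => by
        rw [Subgroup.coe_mul, map_mul]
        have h1 := hc _ (hinv a a.2) b b.2
        calc (a : X) * b * (φ a * φ b) = a * (b * φ a) * φ b := by group
          _ = a * (φ a * b) * φ b := by rw [h1]
          _ = _ := by group }
  have hf : ∀ e : ↥E, f e = e * φ e := fun _ => rfl
  have hφφ : ∀ x, φ (φ x) = x := fun x => congrArg (fun f : MulAut X => f x) hφ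
  have h1 : Nat.card ↥E = Nat.card ↥f.ker * Nat.card ↥f.range := by
    rw [← Nat.card_congr (QuotientGroup.quotientKerEquivRange f).toEquiv, mul_comm]
    exact card_eq_card_quotient_mul_card_subgroup _
  have h2 : Nat.card ↥f.ker ≤ Nat.card ↥(E ⊓ fixedSubgroup φ : Subgroup X) := by
    refine Nat.card_le_card_of_injective (fun k : ↥f.ker => (⟨((k : ↥E) : X), (k : ↥E).2, ?_⟩ :
      ↥(E ⊓ fixedSubgroup φ : Subgroup X))) ?_
    · have h3 : ((k : ↥E) : X) * φ (k : ↥E) = 1 := k.2
      change φ (k : ↥E) = ((k : ↥E) : X)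
      rw [← inv_eq_of_mul_eq_one_right h3]
      exact inv_eq_of_mul_eq_one_left (hsq _ (k : ↥E).2)
    · intro a b h
      have h3 := congrArg (fun z : ↥(E ⊓ fixedSubgroup φ : Subgroup X) => (z : X)) h
      exact Subtype.ext (Subtype.ext h3)
  have h3 : Nat.card ↥f.range ≤ Nat.card ↥(E ⊓ fixedSubgroup φ : Subgroup X) := by
    refine Nat.card_le_card_of_injective (inclusion (?_ : f.range ≤ E ⊓ fixedSubgroup φ)) (inclusion_injective _)
    rintro _ ⟨e, rfl⟩
    refine ⟨mul_mem e.2 (hinv e e.2), ?_⟩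
    change φ (e * φ e) = e * φ e
    rw [map_mul, hφφ]
    exact hc _ (hinv e e.2) _ e.2
  rw [h1, pow_two]
  exact Nat.mul_le_mul h2 h3

/-- an elementary abelian subgroup of order `2 ^ k` in a larger one -/
theorem exists_elem {X : Type u} [Group X] [Finite X] {E : Subgroup X} (hc : ∀ a ∈ E, ∀ b ∈ E, a * b = b * a)
    (hsq : ∀ a ∈ E, a * a = 1) {k : ℕ} (hk : 2 ^ k ∣ Nat.card ↥E) : HasElem (2 ^ k) E := by
  have : Fact (Nat.Prime 2) := ⟨Nat.prime_two⟩
  obtain ⟨K, hK⟩ := Sylow.exists_subgroup_card_pow_prime (G := ↥E) 2 hk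
  refine ⟨K.map E.subtype, map_subtype_le K, ?_, ?_, ?_⟩
  · rintro _ ⟨a, -, rfl⟩ _ ⟨b, -, rfl⟩
    exact hc _ a.2 _ b.2
  · rintro _ ⟨a, -, rfl⟩
    exact hsq _ a.2
  · rw [← hK]
    exact Nat.card_congr (K.equivMapOfInjective _ E.subtype_injective).symm.toEquiv

/-- a group of exponent 2 -/
theorem isPGroup_of_sq {X : Type u} [Group X] {E : Subgroup X} (hsq : ∀ a ∈ E, a * a = 1) : IsPGroup 2 ↥E := by
  intro x
  refine ⟨1, Subtype.ext ?_⟩
  change (x : X) ^ 2 ^ 1 = 1
  rw [pow_one, pow_two]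
  exact hsq _ x.2

/-- an invariant elementary abelian subgroup of order at least `2 ^ (2 k - 1)` gives a fixed one of order `2 ^ k` -/
theorem hasElem_fix {X : Type u} [Group X] [Finite X] {φ : MulAut X} (hφ : φ * φ = 1) {E : Subgroup X}
    (hinv : ∀ e ∈ E, φ e ∈ E) (hc : ∀ a ∈ E, ∀ b ∈ E, a * b = b * a) (hsq : ∀ a ∈ E, a * a = 1) {k : ℕ}
    (hk : 2 ^ (2 * k) ≤ 2 * Nat.card ↥E) : HasElem (2 ^ k) (fixedSubgroup φ) := by
  have : Fact (Nat.Prime 2) := ⟨Nat.prime_two⟩
  have h1 := card_le_sq hφ hinv hc hsq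
  have h2 : IsPGroup 2 ↥(E ⊓ fixedSubgroup φ : Subgroup X) := isPGroup_of_sq fun a ha => hsq a ha.1
  obtain ⟨m, hm⟩ := h2.exists_card_eq
  rw [hm, ← pow_mul] at h1
  have h3 : 2 ^ (2 * k) ≤ 2 ^ (2 * m + 1) := by
    rw [pow_succ]
    rw [mul_comm m 2] at h1
    omega
  have h4 : 2 * k ≤ 2 * m + 1 := (Nat.pow_le_pow_iff_right (by norm_num)).1 h3
  have h5 : k ≤ m := by omega
  obtain ⟨K, hK1, hK2, hK3, hK4⟩ := exists_elem (E := (E ⊓ fixedSubgroup φ : Subgroup X))
    (fun a ha b hb => hc a ha.1 b hb.1) (fun a ha => hsq a ha.1) (k := k) (by rw [hm]; exact pow_dvd_pow _ h5)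
  exact ⟨K, hK1.trans inf_le_right, hK2, hK3, hK4⟩

/-- a closure of commuting involutions -/
theorem closure_comm {X : Type u} [Group X] {D : Set X} (hD : ∀ a ∈ D, ∀ b ∈ D, a * b = b * a) :
    ∀ a ∈ closure D, ∀ b ∈ closure D, a * b = b * a := by
  intro a ha b hb
  have h1 : closure D ≤ centralizer D := (closure_le _).2 fun d hd => mem_centralizer_iff.2 fun e he => hD e he d hd
  have h2 : closure D ≤ centralizer (closure D : Set X) := by
    rw [closure_le]
    intro d hd
    rw [SetLike.mem_coe, mem_centralizer_iff]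
    intro c hc
    exact (mem_centralizer_iff.1 (h1 hc) d hd).symm
  exact mem_centralizer_iff.1 (h2 hb) a ha

theorem closure_sq {X : Type u} [Group X] {D : Set X} (hD : ∀ a ∈ D, ∀ b ∈ D, a * b = b * a)
    (hsq : ∀ a ∈ D, a * a = 1) : ∀ a ∈ closure D, a * a = 1 := by
  intro a ha
  induction ha using closure_induction with
  | mem x hx => exact hsq x hx
  | one => exact one_mul 1
  | mul x y hx hy h1 h2 =>
    calc x * y * (x * y) = x * (y * x) * y := by group
      _ = x * (x * y) * y := by rw [closure_comm hD y hy x hx]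
      _ = (x * x) * (y * y) := by group
      _ = 1 := by rw [h1, h2, one_mul]
  | inv x _ h1 => rw [← mul_inv_rev, h1, inv_one]

namespace FixFi22

open Cfsg.Agent.Fischer Cfsg.Agent.Fischer.Cert Cfsg.Agent.Fischer.Group22 Cfsg.Agent.Fischer.Rank22
open Cfsg.Agent.R01
open Cfsg.Agent.R01.Fi22Facts (E E_g mem_T_iff t_ptw ptw word com_of_chk com_iff)
open Cfsg.Agent.R08.AutT (T)
open Cfsg.Agent.StdFi22.MainFi22 (bas)

open Data22.Gen in
/-- seven commuting transpositions -/
def ws : List Fi22Facts.CW := [([], a), ([], c), ([], e), ([], g), ([], h), ([], l), ([d, h, e, d], c)]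

/-- all products -/
def ps : List (List Data22.Gen) := (ws.sublists.map fun l => (l.map word).flatten)

/-- images of a point -/
noncomputable def im (w : List Data22.Gen) : ℕ := walk Data22.nx w.reverse 56

theorem ws_com : ∀ c ∈ ws, ∀ c' ∈ ws,
    Nat.beq (Cert.walk Data22.nx (word c).reverse (Fi22Facts.num c')) (Fi22Facts.num c') = true := by
  decide +kernel

theorem nodup_im : (ps.map im).Nodup := by decide +kernel

/-- the transposition of a word -/
noncomputable def tr (c : Fi22Facts.CW) : Spor.Fi22 := E (R.t (ptw c))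

theorem tr_mem (c : Fi22Facts.CW) : tr c ∈ T := mem_T_iff.2 ⟨_, rfl⟩

theorem tr_comm : ∀ c ∈ ws, ∀ c' ∈ ws, tr c * tr c' = tr c' * tr c := fun c hc c' hc' =>
  com_iff.2 (com_of_chk (ws_com c hc c' hc'))

/-- the subgroup generated by the seven transpositions -/
noncomputable def A₀ : Subgroup Spor.Fi22 := closure {t | ∃ c ∈ ws, t = tr c}

theorem prod_eq (l : List Fi22Facts.CW) : E ((l.map word).flatten.map g).prod = (l.map tr).prod := by
  induction l with
  | nil => exact map_one E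
  | cons c l ih =>
    rw [List.map_cons, List.flatten_cons, List.map_append, List.prod_append, map_mul, ih, List.map_cons,
      List.prod_cons, ← t_ptw]
    rfl

theorem prod_mem {w : List Data22.Gen} (hw : w ∈ ps) : E (w.map g).prod ∈ A₀ := by
  rw [ps, List.mem_map] at hw
  obtain ⟨l, hl, rfl⟩ := hw
  rw [prod_eq]
  refine Subgroup.list_prod_mem _ fun x hx => ?_
  obtain ⟨c, hc, rfl⟩ := List.mem_map.1 hx
  exact subset_closure ⟨c, (List.mem_sublists.1 hl).subset hc, rfl⟩

theorem card_A₀ : 128 ≤ Nat.card ↥A₀ := by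
  classical
  have hfin : Finite Spor.Fi22 := Fi22Facts.finite
  let x : X := ⟨56, by decide⟩
  let F : ↥A₀ → ℕ := fun a => ((E.symm (a : Spor.Fi22) • x : X) : ℕ)
  have h1 : ((ps.map im).toFinset : Set ℕ) ⊆ Set.range F := by
    intro n hn
    rw [Finset.mem_coe, List.mem_toFinset, List.mem_map] at hn
    obtain ⟨w, hw, rfl⟩ := hn
    refine ⟨⟨_, prod_mem hw⟩, ?_⟩
    change ((E.symm (E (w.map g).prod) • x : X) : ℕ) = _
    rw [E.symm_apply_apply, Fi22Loc.val_word]
    rfl
  have h2 := Set.ncard_le_ncard h1 (Set.toFinite _)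
  rw [Set.ncard_coe_finset, List.toFinset_card_of_nodup nodup_im, List.length_map] at h2
  have h3 : ps.length = 128 := by decide +kernel
  rw [h3] at h2
  refine h2.trans ?_
  rw [← Nat.card_coe_set_eq]
  exact Finite.card_range_le F

theorem fi22 (x : MulAut Spor.Fi22) (hx : orderOf x = 2) : HasElem 16 (fixedSubgroup x) := by
  have hfin : Finite Spor.Fi22 := Fi22Facts.finite
  have : Fact (Nat.Prime 2) := ⟨Nat.prime_two⟩
  have hxx : x * x = 1 := by rw [← pow_two, ← hx, pow_orderOf_eq_one]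
  obtain ⟨S, -, hS⟩ := exists_inv_sylow (X := Spor.Fi22) hxx (P := ⊥) IsPGroup.of_bot fun y hy => by
    rw [mem_bot] at hy
    rw [hy, map_one]
    exact one_mem _
  let D : Set Spor.Fi22 := {t | t ∈ T ∧ t ∈ S}
  have hDc : ∀ a ∈ D, ∀ b ∈ D, a * b = b * a := by
    rintro a ⟨ha, haS⟩ b ⟨hb, hbS⟩
    rcases bas.three ha hb with h | h
    · exact h
    · have h1 : (a * b) ^ 3 = 1 := by
        calc (a * b) ^ 3 = (a * b * a) * (b * a * b) := by rw [pow_succ, pow_succ, pow_one]; group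
          _ = (a * b * a) * (a * b * a) := by rw [h]
          _ = a * b * (a * a) * b * a := by group
          _ = a * (b * b) * a := by rw [bas.sq ha]; group
          _ = 1 := by rw [bas.sq hb, mul_one, bas.sq ha]
      obtain ⟨k, hk⟩ := S.isPGroup' (⟨a * b, mul_mem haS hbS⟩ : ↥(S : Subgroup Spor.Fi22))
      have hk' : (a * b) ^ 2 ^ k = 1 := congrArg Subtype.val hk
      have h2 : orderOf (a * b) = 1 := Nat.eq_one_of_dvd_coprimes
        (Nat.Coprime.pow_right k (by norm_num : Nat.Coprime 3 2)) (orderOf_dvd_of_pow_eq_one h1)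
        (orderOf_dvd_of_pow_eq_one hk')
      have h3 : a * b = 1 := orderOf_eq_one_iff.1 h2
      have h4 : b = a := by
        rw [← bas.inv_self ha]
        exact eq_inv_of_mul_eq_one_right h3
      rw [h4]
  have hDs : ∀ a ∈ D, a * a = 1 := fun a ha => bas.sq ha.1
  have hinv : ∀ e ∈ closure D, x e ∈ closure D := by
    have h1 : closure D ≤ (closure D).comap x.toMonoidHom := by
      rw [closure_le]
      rintro t ⟨ht, htS⟩
      exact subset_closure ⟨R08.AutT.aut_mem x ht, hS t htS⟩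
    exact fun e he => h1 he
  have h2 : IsPGroup 2 ↥A₀ := isPGroup_of_sq (closure_sq (by
    rintro _ ⟨c, hc, rfl⟩ _ ⟨c', hc', rfl⟩
    exact tr_comm c hc c' hc') (by
    rintro _ ⟨c, hc, rfl⟩
    exact bas.sq (tr_mem c)))
  obtain ⟨S', hS'⟩ := h2.exists_le_sylow
  obtain ⟨g, hg⟩ := MulAction.exists_smul_eq Spor.Fi22 S' S
  have h3 : A₀.map (MulAut.conj g).toMonoidHom ≤ closure D := by
    rw [map_le_iff_le_comap, A₀, closure_le]
    rintro _ ⟨c, hc, rfl⟩
    refine subset_closure ⟨bas.conjT g (tr_mem c), ?_⟩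
    rw [← hg]
    exact ⟨_, hS' (subset_closure ⟨c, hc, rfl⟩), rfl⟩
  have h4 : 128 ≤ Nat.card ↥(closure D) := by
    refine card_A₀.trans ?_
    rw [Nat.card_congr (A₀.equivMapOfInjective (MulAut.conj g).toMonoidHom (MulAut.conj g).injective).toEquiv]
    exact Nat.card_le_card_of_injective _ (inclusion_injective h3)
  exact hasElem_fix (k := 4) hxx hinv (closure_comm hDc) (closure_sq hDc hDs) (by omega)

end FixFi22

/-- **`C_X(x)` has an elementary abelian subgroup of order 16 for the involutory automorphisms of `Fi₂₂`** -/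
theorem elem_fi22 {X : Type u} [Group X] (h : Spor.IsoFi22 X) {x : MulAut X} (hx : orderOf x = 2) :
    HasElem 16 (fixedSubgroup x) := by
  obtain ⟨e⟩ := h
  have h1 : orderOf (MulAut.congr e x) = 2 := by rw [MulEquiv.orderOf_eq, hx]
  obtain ⟨E, hE1, hE2, hE3, hE4⟩ := FixFi22.fi22 _ h1
  refine ⟨E.map e.symm.toMonoidHom, ?_, ?_, ?_, ?_⟩
  · rintro _ ⟨a, ha, rfl⟩
    have h2 : MulAut.congr e x a = a := hE1 ha
    change x (e.symm a) = e.symm a
    apply e.injective
    rw [e.apply_symm_apply]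
    exact h2
  · rintro _ ⟨a, ha, rfl⟩ _ ⟨b, hb, rfl⟩
    rw [← map_mul, ← map_mul, hE2 a ha b hb]
  · rintro _ ⟨a, ha, rfl⟩
    rw [← map_mul, hE3 a ha, map_one]
  · rw [← hE4]
    exact Nat.card_congr (E.equivMapOfInjective _ e.symm.injective).symm.toEquiv

end Cfsg.Agent.H287
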