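import Cfsg.Agent.H287.FixCard
import Cfsg.Agent.CpAut.TwoAbs
import Cfsg.Agent.CpQuot.Quo

/-!
# Components and the centralizers of involutions (helper287)

`frame_comp` : if the centralizers of the involutions of `H` have no odd core and their components `K` satisfy
`S |K| |K / Z(K)|`, then for a component `A` of `H` either `S n |A / Z(A)|` for a divisor `n` of `|A|`, or `A / Z(A)` is
simple and has the same property: `CompCard S (A / Z(A))`.
-/

set_option autoImplicit false

namespace Cfsg.Agent.H287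

open Subgroup Cfsg
open Cfsg.Agent.CTwoTab
open Cfsg.Agent.CpAut
open Cfsg.Agent.SignalizersComponents.Components

universe u v

/-- the image of a component not contained in the normal subgroup -/
theorem comp_map {H : Type u} {Q : Type v} [Group H] [Group Q] {f : H →* Q} (hf : Function.Surjective f) {A : Subgroup H}
    (hA : IsComponent A) (hne : A.map f ≠ ⊥) :
    IsComponent (A.map f) ∧ Nonempty (↥A ⧸ center ↥A ≃* ↥(A.map f) ⧸ center ↥(A.map f)) := by
  have : Nontrivial ↥(A.map f) := (nontrivial_iff_ne_bot _).2 hne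
  have h1 : Function.Surjective (f.subgroupMap A) := f.subgroupMap_surjective A
  exact ⟨⟨hA.1.map hf, CpQuot.Quo.quasisimple hA.2 (f.subgroupMap A) h1⟩,
    CpQuot.Quo.nonempty_equiv hA.2 (f.subgroupMap A) h1⟩

/-- the centralizer of an element of a subgroup -/
def centInf {G : Type u} [Group G] {L : Subgroup G} (v : ↥L) :
    ↥(L.subgroupOf (centralizer ({(v : G)} : Set G))) ≃* ↥(centralizer ({v} : Set ↥L)) where
  toFun m := ⟨⟨m.1.1, m.2⟩, by
    rw [mem_centralizer_singleton_iff]
    exact Subtype.ext (mem_centralizer_singleton_iff.1 m.1.2)⟩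
  invFun c := ⟨⟨c.1.1, by
    rw [mem_centralizer_singleton_iff]
    exact congrArg Subtype.val (mem_centralizer_singleton_iff.1 c.2)⟩, c.1.2⟩
  left_inv _ := rfl
  right_inv _ := rfl
  map_mul' _ _ := rfl

/-- components of a normal subgroup -/
theorem HCard.normal_sub {S : ℕ → ℕ → Prop} {G : Type u} [Group G] (h : HCard S G) (N : Subgroup G) [N.Normal] :
    HCard S ↥N := by
  intro K hK
  have hN : N.IsSubnormal := Subgroup.Normal.isSubnormal inferInstance
  have h1 := h _ (isComponent_map_subtype hN hK)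
  have e : ↥K ≃* ↥(K.map N.subtype) := K.equivMapOfInjective N.subtype N.subtype_injective
  rwa [← Nat.card_congr e.toEquiv, ← Nat.card_congr (quoEquiv e).toEquiv] at h1

theorem frame_comp {S : ℕ → ℕ → Prop} {H : Type u} [Group H] [Finite H]
    (hcore : ∀ u : H, orderOf u = 2 → pPrimeCore 2 ↥(centralizer ({u} : Set H)) = ⊥)
    (hloc : ∀ u : H, orderOf u = 2 → HCard S ↥(centralizer ({u} : Set H)))
    {A : Subgroup H} (hA : IsComponent A) (h2 : 2 ∣ Nat.card ↥A) :
    (∃ n, n ∣ Nat.card ↥A ∧ S n (Nat.card (↥A ⧸ center ↥A))) ∨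
      (IsSimpleGroup (↥A ⧸ center ↥A) ∧ CompCard S (↥A ⧸ center ↥A)) := by
  have hOn : (pPrimeCore 2 H).Normal := Lib.Cores.pPrimeCore_normal 2
  have hne : A.map (QuotientGroup.mk' (pPrimeCore 2 H)) ≠ ⊥ := by
    intro h
    rw [Subgroup.map_eq_bot_iff, QuotientGroup.ker_mk'] at h
    have h3 := h2.trans (card_dvd_of_le h)
    have h4 : Odd (Nat.card ↥(pPrimeCore 2 H)) := TwoAbs.odd_core
    exact (Nat.not_even_iff_odd.2 h4) (even_iff_two_dvd.2 h3)
  obtain ⟨hL, ⟨e0⟩⟩ := comp_map (QuotientGroup.mk'_surjective (pPrimeCore 2 H)) hA hne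
  set L := A.map (QuotientGroup.mk' (pPrimeCore 2 H)) with hLdef
  rcases TwoAbs.frame hcore L hL with ⟨u, K, hu, hK, ⟨e⟩⟩ | ⟨hs, hLn, -, hinv⟩
  · left
    refine ⟨Nat.card ↥K, ?_, ?_⟩
    · rw [Nat.card_congr e.toEquiv, hLdef]
      exact card_map_dvd A _
    · have h1 := (hloc u hu).comp hK
      rwa [Nat.card_congr (quoEquiv e).toEquiv, ← Nat.card_congr e0.toEquiv] at h1
  · right
    have hna : ¬ IsMulCommutative ↥L := quasisimple_not_isMulCommutative hL.2
    have e1 : ↥A ⧸ center ↥A ≃* ↥L :=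
      (e0.trans (QuotientGroup.quotientMulEquivOfEq (CTwoTab.center_eq_bot_of_simple hna))).trans
        QuotientGroup.quotientBot
    refine ⟨e1.isSimpleGroup, CompCard.of_equiv e1.symm ?_⟩
    intro v hv K hK
    obtain ⟨u, e, hu, -, -⟩ := hinv v v.2 (by rw [Subgroup.orderOf_coe, hv])
    have h3 : HCard S ↥(centralizer ({(v : H ⧸ pPrimeCore 2 H)} : Set (H ⧸ pPrimeCore 2 H))) := (hloc u hu).congr e
    exact ((h3.normal_sub (L.subgroupOf _)).congr (centInf v)).comp hK

end Cfsg.Agent.H287
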