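import Cfsg.Agent.H287.HNa

/-!
# Automorphisms of `HN` fixing an involution with centralizer `2.HS.2` (helper287)
-/

set_option autoImplicit false

namespace Cfsg.Agent.H287.OutHN

open Subgroup Cfsg
open Cfsg.Agent.HN Cfsg.Agent.HN.Pres Cfsg.Agent.HN.HS100 Cfsg.Agent.HN.P1408 Cfsg.Agent.HN.H0Basic
open Cfsg.Agent.HN.Local Cfsg.Agent.HN.Iota
open Cfsg.Agent.KFacts.HS Cfsg.Agent.KFacts.HS.DFour
open scoped commutatorElement

universe u

variable {L : Type u} [Group L] (D : Cfsg.Agent.KFacts.HS.Mod L)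

theorem ψ_inj : Function.Injective NormalH.ψ := Cfsg.Agent.KFacts.HN.emb.inj

theorem commutator_K : _root_.commutator ↥K = ⊤ := CTwoTab.HN.qs_K.1.1

theorem comm_N : ⁅CTwoTab.HN.N, CTwoTab.HN.N⁆ = CTwoTab.HN.N := by
  have h := commutator_K
  rw [_root_.commutator_def] at h
  have h1 : ⁅K, K⁆ = K := by
    have h2 := congrArg (Subgroup.map K.subtype) h
    rw [map_commutator, ← MonoidHom.range_eq_map, K.range_subtype] at h2
    exact h2
  rw [CTwoTab.HN.N, ← map_commutator, h1]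

/-- the perfect subgroup `2.HS` is invariant -/
theorem map_N {t : MulAut Cfsg.Spor.HN} (ht : t (NormalH.ψ τ) = NormalH.ψ τ) {x : Cfsg.Spor.HN}
    (hx : x ∈ CTwoTab.HN.N) : t x ∈ CTwoTab.HN.N := by
  have h1 : CTwoTab.HN.N.map t.toMonoidHom ≤ CTwoTab.HN.N := by
    refine CTwoTab.HN.le_N _ ?_ ?_
    · rintro _ ⟨y, hy, rfl⟩
      have h2 := mem_centralizer_singleton_iff.1 (CTwoTab.HN.N_le hy)
      rw [mem_centralizer_singleton_iff, Cfsg.Agent.KFacts.HN.Q0_eq]
      rw [Cfsg.Agent.KFacts.HN.Q0_eq] at h2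
      change t y * NormalH.ψ τ = NormalH.ψ τ * t y
      rw [← ht, ← map_mul, h2, map_mul]
    · rw [← map_commutator, comm_N]
  exact h1 ⟨x, hx, rfl⟩

include D in
/-- **An automorphism fixing `ψ τ` acts on `2.HS` as an element of `2.HS.2`.** -/
theorem exists_h {t : MulAut Cfsg.Spor.HN} (ht : t (NormalH.ψ τ) = NormalH.ψ τ) :
    ∃ h : H0, ∀ k ∈ K, t (NormalH.ψ k) = NormalH.ψ (h * k * h⁻¹) := by
  have hfin : Finite L := DFour.fin D
  have hr : ∀ x : H0, ∃ y : H0, NormalH.ψ y = t (NormalH.ψ x) := by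
    intro x
    obtain ⟨y, hy⟩ := Cfsg.Agent.KFacts.HN.emb.cent (t (NormalH.ψ x)) (by
      rw [← ht, ← map_mul, ← map_mul, ← map_mul, ← map_mul, τ_comm])
    exact ⟨y, hy⟩
  choose θ hθ using hr
  have hmul : ∀ x y, θ (x * y) = θ x * θ y := by
    intro x y
    apply ψ_inj
    rw [hθ, map_mul, map_mul, map_mul, hθ, hθ]
  have hτ : θ τ = τ := ψ_inj (by rw [hθ, ht])
  have hone : θ 1 = 1 := ψ_inj (by rw [hθ, map_one, map_one])
  have hinj : Function.Injective θ := fun x y h => by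
    apply ψ_inj
    apply t.injective
    rw [← hθ, ← hθ, h]
  have hK : ∀ k ∈ K, θ k ∈ K := by
    intro k hk
    have h1 : t (NormalH.ψ k) ∈ CTwoTab.HN.N := map_N ht ⟨k, hk, rfl⟩
    rw [← hθ] at h1
    obtain ⟨k', hk', h2⟩ := h1
    rw [← ψ_inj h2]
    exact hk'
  let f : ↥K →* L :=
    { toFun := fun k => D.π ⟨θ k, hK k k.2⟩
      map_one' := by
        rw [← map_one D.π]
        congr 1
        exact Subtype.ext hone
      map_mul' := fun a b => by
        rw [← map_mul]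
        congr 1
        exact Subtype.ext (hmul _ _) }
  have hker : D.π.ker ≤ f.ker := by
    intro k hk
    rw [MonoidHom.mem_ker] at hk ⊢
    rcases (D.ker k).1 hk with h | h
    · refine (D.ker _).2 (Or.inl ?_)
      change θ k = 1
      rw [h, hone]
    · refine (D.ker _).2 (Or.inr ?_)
      change θ k = τ
      rw [h, hτ]
  let α0 : L →* L := D.π.liftOfSurjective D.surj ⟨f, hker⟩
  have hα0 : ∀ k : ↥K, α0 (D.π k) = f k := fun k => MonoidHom.liftOfRightInverse_comp_apply _ _ _ ⟨f, hker⟩ k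
  have hinj0 : Function.Injective α0 := by
    rw [injective_iff_map_eq_one]
    intro l hl
    obtain ⟨k, rfl⟩ := D.surj l
    rw [hα0] at hl
    rcases (D.ker _).1 hl with h | h
    · refine (D.ker _).2 (Or.inl (hinj ?_))
      rw [hone]
      exact h
    · refine (D.ker _).2 (Or.inr (hinj ?_))
      rw [hτ]
      exact h
  let α : MulAut L := MulEquiv.ofBijective α0 (Finite.injective_iff_bijective.1 hinj0)
  obtain ⟨h, hh⟩ := D.au_surj α
  have h1 : ∀ k (hk : k ∈ K), θ k = h * k * h⁻¹ ∨ θ k = h * k * h⁻¹ * τ := by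
    intro k hk
    have h2 : D.au h (D.π ⟨k, hk⟩) = D.π ⟨θ k, hK k hk⟩ := by
      rw [hh]
      exact hα0 ⟨k, hk⟩
    rw [D.au_π] at h2
    exact (D.eq_iff _ _).1 h2.symm
  refine ⟨h, fun k hk => ?_⟩
  rw [← hθ]
  congr 1
  let E : Subgroup ↥K :=
    { carrier := {k | θ k = h * k * h⁻¹}
      one_mem' := by
        change θ 1 = h * 1 * h⁻¹
        rw [hone]; group
      mul_mem' := fun {a b} ha hb => by
        change θ (a * b) = h * (a * b) * h⁻¹
        rw [hmul, show θ a = h * a * h⁻¹ from ha, show θ b = h * b * h⁻¹ from hb]; group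
      inv_mem' := fun {a} ha => by
        change θ (a : H0)⁻¹ = h * (a : H0)⁻¹ * h⁻¹
        have h2 : θ a * θ (a : H0)⁻¹ = 1 := by rw [← hmul, mul_inv_cancel, hone]
        rw [← inv_eq_of_mul_eq_one_right h2, show θ a = h * a * h⁻¹ from ha]; group }
  have hE : commutator ↥K ≤ E := by
    rw [_root_.commutator_def, commutator_le]
    intro a _ b _
    have hc : ∀ x y : H0, θ ⁅x, y⁆ = ⁅θ x, θ y⁆ := by
      intro x y
      apply ψ_inj
      rw [hθ, map_commutatorElement, map_commutatorElement, map_commutatorElement, hθ, hθ]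
    have hs : ∀ x y : H0, ⁅x * τ, y⁆ = ⁅x, y⁆ ∧ ⁅x, y * τ⁆ = ⁅x, y⁆ := by
      intro x y
      have e1 : τ * y * τ⁻¹ = y := by rw [← τ_comm, mul_inv_cancel_right]
      have e2 : τ * x⁻¹ * τ⁻¹ = x⁻¹ := by rw [← τ_comm, mul_inv_cancel_right]
      constructor
      · calc ⁅x * τ, y⁆ = x * (τ * y * τ⁻¹) * x⁻¹ * y⁻¹ := by rw [commutatorElement_def]; group
          _ = ⁅x, y⁆ := by rw [e1, commutatorElement_def]
      · calc ⁅x, y * τ⁆ = x * y * (τ * x⁻¹ * τ⁻¹) * y⁻¹ := by rw [commutatorElement_def]; group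
          _ = ⁅x, y⁆ := by rw [e2, commutatorElement_def]
    change θ ⁅(a : H0), (b : H0)⁆ = h * ⁅(a : H0), (b : H0)⁆ * h⁻¹
    rw [hc]
    have e : ⁅h * (a : H0) * h⁻¹, h * (b : H0) * h⁻¹⁆ = h * ⁅(a : H0), (b : H0)⁆ * h⁻¹ := by
      rw [commutatorElement_def, commutatorElement_def]; group
    rcases h1 a a.2 with ha | ha <;> rcases h1 b b.2 with hb | hb
    · rw [ha, hb, e]
    · rw [ha, hb, (hs _ _).2, e]
    · rw [ha, hb, (hs _ _).1, e]
    · rw [ha, hb, (hs _ _).1, (hs _ _).2, e]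
  rw [commutator_K] at hE
  exact hE (mem_top (⟨k, hk⟩ : ↥K))

end Cfsg.Agent.H287.OutHN
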