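import Cfsg.Agent.H287.HNb
import Cfsg.Agent.KFacts.HN.Aut0

/-!
# An involutory automorphism of `HN` centralizing `2.HS` is inner (helper287)
-/

set_option autoImplicit false

namespace Cfsg.Agent.H287.OutHN

open Subgroup Cfsg
open Cfsg.Agent.Co2Type.Quad

/-- **large extraspecial subgroups** : an automorphism which moves the elements of `Q` inside of `{1, z, u, uz}` -/
theorem trivial_on {K : Type*} [Group K] {Q : Subgroup K} {z : K} (h : Large Q z) {u : K} (hu : u ∈ Q) (hu1 : u ≠ 1)
    (huz : u ≠ z) (huu : u * u = 1) {α : MulAut K} (hαz : α z = z)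
    (hα : ∀ x ∈ Q, (α x = x ∨ α x = x * z) ∨ α x = x * u ∨ α x = x * (u * z)) :
    ∀ x ∈ Q, α x = x ∨ α x = x * z := by
  have hzu : u * z = z * u := h.comm_z u hu
  -- squares
  have key : ∀ x ∈ Q, (α x = x * u ∨ α x = x * (u * z)) → x * u = u * x := by
    intro x hx hc
    have h1 : α (x * x) = x * x := by
      rcases h.sq x hx with h2 | h2
      · rw [h2, map_one]
      · rw [h2, hαz]
    have hxz : x * z = z * x := h.comm_z x hx
    rcases h.comm x hx u hu with h2 | h2
    · exact h2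
    · exfalso
      apply h.z_ne
      have h3 : ∀ e : K, e * e = 1 → (∀ y ∈ Q, y * e = e * y) → α x = x * (u * e) → z = 1 := by
        intro e he hce hx'
        rw [map_mul, hx'] at h1
        have h4 : x * (u * e) * (x * (u * e)) = x * x * z := by
          calc x * (u * e) * (x * (u * e)) = x * (u * (e * x) * u) * e := by group
            _ = x * (u * (x * e) * u) * e := by rw [hce x hx]
            _ = x * (u * x * (e * u)) * e := by group
            _ = x * (u * x * (u * e)) * e := by rw [hce u hu]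
            _ = x * (u * x) * u * (e * e) := by group
            _ = x * (u * x) * u := by rw [he, mul_one]
            _ = x * (u * x * z * z) * u := by rw [mul_assoc (u * x), h.z_sq, mul_one]
            _ = x * (x * u * z) * u := by rw [← h2]
            _ = x * x * (u * (z * u)) := by group
            _ = x * x * (u * (u * z)) := by rw [hzu]
            _ = x * x * z := by rw [← mul_assoc u u z, huu, one_mul]
        rw [h4] at h1
        exact mul_left_cancel (h1.trans (mul_one _).symm)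
      rcases hc with hc | hc
      · exact h3 1 (mul_one 1) (fun y _ => by rw [mul_one, one_mul]) (by rw [hc, mul_one])
      · exact h3 z h.z_sq (fun y hy => h.comm_z y hy) hc
  obtain ⟨y, hy, hyu⟩ : ∃ y ∈ Q, y * u ≠ u * y := by
    by_contra hcon
    push Not at hcon
    rcases h.cent u hu (fun y hy => (hcon y hy).symm) with h1 | h1
    · exact hu1 h1
    · exact huz h1
  have hy1 : α y = y ∨ α y = y * z := by
    rcases hα y hy with h1 | h1
    · exact h1
    · exact absurd (key y hy h1) hyu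
  intro x hx
  rcases hα x hx with h1 | h1
  · exact h1
  · exfalso
    have hxu := key x hx h1
    have hxy : x * y * u ≠ u * (x * y) := by
      intro h2
      apply hyu
      have h3 : x * (y * u) = x * (u * y) := by
        calc x * (y * u) = x * y * u := by group
          _ = u * (x * y) := h2
          _ = u * x * y := by group
          _ = x * u * y := by rw [hxu]
          _ = _ := by group
      exact mul_left_cancel h3
    have h2 : α (x * y) = x * y ∨ α (x * y) = x * y * z := by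
      rcases hα _ (Q.mul_mem hx hy) with h3 | h3
      · exact h3
      · exact absurd (key _ (Q.mul_mem hx hy) h3) hxy
    have hyz : y * z = z * y := h.comm_z y hy
    have fin : ∀ w e f : K, (e = 1 ∨ e = z) → (f = 1 ∨ f = z) → α x = x * w → α y = y * e → α (x * y) = x * y * f →
        w = 1 ∨ w = z := by
      intro w e f he hf h3 h4 h5
      rw [map_mul, h3, h4] at h5
      have h6 : w * y * e = y * f := by
        apply mul_left_cancel (a := x)
        calc x * (w * y * e) = x * w * (y * e) := by group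
          _ = x * y * f := h5
          _ = _ := by group
      have h7 : w = y * (f * e⁻¹) * y⁻¹ := by
        rw [show y * (f * e⁻¹) * y⁻¹ = (y * f) * e⁻¹ * y⁻¹ by group, ← h6]; group
      have hzi : z⁻¹ = z := inv_eq_of_mul_eq_one_left h.z_sq
      have h8 : f * e⁻¹ = 1 ∨ f * e⁻¹ = z := by
        rcases he with rfl | rfl <;> rcases hf with rfl | rfl
        · left; group
        · right; group
        · right; rw [hzi, one_mul]
        · left; exact mul_inv_cancel _
      rcases h8 with h8 | h8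
      · left; rw [h7, h8]; group
      · right; rw [h7, h8, hyz, mul_inv_cancel_right]
    have h9 : ∃ e, (e = 1 ∨ e = z) ∧ α y = y * e := by
      rcases hy1 with h3 | h3
      · exact ⟨1, Or.inl rfl, by rw [h3, mul_one]⟩
      · exact ⟨z, Or.inr rfl, h3⟩
    have h10 : ∃ f, (f = 1 ∨ f = z) ∧ α (x * y) = x * y * f := by
      rcases h2 with h3 | h3
      · exact ⟨1, Or.inl rfl, by rw [h3, mul_one]⟩
      · exact ⟨z, Or.inr rfl, h3⟩
    obtain ⟨e, he, h9⟩ := h9
    obtain ⟨f, hf, h10⟩ := h10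
    rcases h1 with h1 | h1
    · rcases fin u e f he hf h1 h9 h10 with h3 | h3
      · exact hu1 h3
      · exact huz h3
    · rcases fin (u * z) e f he hf h1 h9 h10 with h3 | h3
      · apply huz
        rw [eq_inv_of_mul_eq_one_left h3]
        exact inv_eq_of_mul_eq_one_left h.z_sq
      · exact hu1 (mul_eq_right.1 h3)

/-! ### `HN` -/

open Cfsg.Agent.HN Cfsg.Agent.HN.Pres Cfsg.Agent.HN.P1408 Cfsg.Agent.HN.H0Basic
open Cfsg.Agent.HN.XWords Cfsg.Agent.HN.XStruct Cfsg.Agent.KFacts.HN
open Cfsg.Agent.SporadicA.PermTab (band_eq_true allB allB_iff)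

/-- even words are in `2.HS` -/
theorem V_mem_N {w : List ℕ} (h1 : okw w = true) (h2 : par w = false) : V w ∈ CTwoTab.HN.N :=
  ⟨hw w, mem_K_of_par h1 h2, V_hw h1⟩

/-- the masks commuting with `2.HS ∩ R` -/
def tst (m : ℕ) : Bool :=
  Bool.not (cnt m (Bm 0) 8) && Bool.not (cnt m (Bm 1) 8) && Bool.not (cnt m (Bm 4) 8) &&
    Bool.not (Bool.xor (cnt m (Bm 2) 8) (cnt m (Bm 3) 8)) && Bool.not (Bool.xor (cnt m (Bm 3) 8) (cnt m (Bm 5) 8)) &&
    Bool.not (Bool.xor (cnt m (Bm 5) 8) (cnt m (Bm 6) 8))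

theorem chk_tst : allB (fun m => Bool.or (Bool.not (tst m)) (Nat.beq m 0 || Nat.beq m 1 || Nat.beq m 28 ||
    Nat.beq m 29)) 256 = true := by decide +kernel

theorem mask_cases {m : ℕ} (hm : m < 256) (h : tst m = true) : m = 0 ∨ m = 1 ∨ m = 28 ∨ m = 29 := by
  have h1 := (allB_iff _ _).1 chk_tst m hm
  rw [h] at h1
  simp only [Bool.not_true, Bool.false_or, Bool.or_eq_true] at h1
  rcases h1 with ((h1 | h1) | h1) | h1
  · exact Or.inl (Nat.eq_of_beq_eq_true h1)
  · exact Or.inr (Or.inl (Nat.eq_of_beq_eq_true h1))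
  · exact Or.inr (Or.inr (Or.inl (Nat.eq_of_beq_eq_true h1)))
  · exact Or.inr (Or.inr (Or.inr (Nat.eq_of_beq_eq_true h1)))

theorem sq28 : r Q 28 * r Q 28 = W0 := by
  rw [← V_rmw, ← V_append]
  exact V_eq (by decide +kernel)

theorem sq29 : r Q 29 * r Q 29 = W0 := by
  rw [← V_rmw, ← V_append]
  exact V_eq (by decide +kernel)

theorem W0_mem_N : W0 ∈ CTwoTab.HN.N := V_mem_N (by decide +kernel) (by decide +kernel)

theorem r_mem_N : ∀ m ∈ [1, 2, 12, 16, 28, 29, 40, 96], r Q m ∈ CTwoTab.HN.N := by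
  intro m hm
  rw [← V_rmw]
  have h : ([1, 2, 12, 16, 28, 29, 40, 96].all fun m => okw (rmw m) && !par (rmw m)) = true := by decide +kernel
  have h1 := List.all_eq_true.1 h m hm
  rw [Bool.and_eq_true, Bool.not_eq_true'] at h1
  exact V_mem_N h1.1 h1.2



theorem y_comm {y : Cfsg.Spor.HN} {m : ℕ} {b : Bool} (hy : y = r Q m * sgn0 b) {j : ℕ} (hj : j < 8) :
    y * Q j = Q j * (y * sgn0 (cnt m (Bm j) 8)) := by
  have h1 : r Q m * Q j = Q j * (r Q m * sgn0 (cnt m (Bm j) 8)) := rr_comm m (n := 8) hj le_rfl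
  have h2 : sgn0 b * Q j = Q j * sgn0 b := cws hj b
  have h3 : sgn0 (cnt m (Bm j) 8) * sgn0 b = sgn0 b * sgn0 (cnt m (Bm j) 8) := by
    rw [sgn0_mul, sgn0_mul, Bool.xor_comm]
  rw [hy]
  calc r Q m * sgn0 b * Q j = r Q m * (sgn0 b * Q j) := by group
    _ = r Q m * Q j * sgn0 b := by rw [h2]; group
    _ = Q j * (r Q m * (sgn0 (cnt m (Bm j) 8) * sgn0 b)) := by rw [h1]; group
    _ = _ := by rw [h3]; group

theorem sgn0_eq_one {b : Bool} (h : sgn0 b = 1) : b = false := by
  cases b
  · rfl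
  · exact absurd h W0_ne

theorem cnt_of_comm {y : Cfsg.Spor.HN} {m : ℕ} {b : Bool} (hy : y = r Q m * sgn0 b) {j : ℕ} (hj : j < 8)
    (h : y * Q j = Q j * y) : cnt m (Bm j) 8 = false := by
  have h1 := y_comm hy hj
  rw [h] at h1
  exact sgn0_eq_one (mul_eq_left.1 (mul_left_cancel h1).symm)

theorem cnt_of_comm2 {y : Cfsg.Spor.HN} {m : ℕ} {b : Bool} (hy : y = r Q m * sgn0 b) {i j : ℕ} (hi : i < 8)
    (hj : j < 8) (h : y * (Q i * Q j) = Q i * Q j * y) : Bool.xor (cnt m (Bm i) 8) (cnt m (Bm j) 8) = false := by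
  have h1 := y_comm hy hi
  have h2 := y_comm hy hj
  have h3 : sgn0 (cnt m (Bm i) 8) * Q j = Q j * sgn0 (cnt m (Bm i) 8) := cws hj _
  have h4 : y * (Q i * Q j) = Q i * Q j * (y * sgn0 (Bool.xor (cnt m (Bm i) 8) (cnt m (Bm j) 8))) := by
    rw [Bool.xor_comm, ← sgn0_mul]
    calc y * (Q i * Q j) = y * Q i * Q j := by group
      _ = Q i * y * (sgn0 (cnt m (Bm i) 8) * Q j) := by rw [h1]; group
      _ = Q i * (y * Q j) * sgn0 (cnt m (Bm i) 8) := by rw [h3]; group
      _ = _ := by rw [h2]; group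
  rw [h] at h4
  exact sgn0_eq_one (mul_eq_left.1 (mul_left_cancel h4).symm)

theorem r12 : r Q 12 = Q 2 * Q 3 := by
  rw [← V_rmw, Q, Q, ← V_append]
  exact V_eq (by decide +kernel)

theorem r40 : r Q 40 = Q 3 * Q 5 := by
  rw [← V_rmw, Q, Q, ← V_append]
  exact V_eq (by decide +kernel)

theorem r96 : r Q 96 = Q 5 * Q 6 := by
  rw [← V_rmw, Q, Q, ← V_append]
  exact V_eq (by decide +kernel)

theorem r1 : r Q 1 = Q 0 := by
  rw [← V_rmw, Q]
  exact V_eq (by decide +kernel)

theorem r2 : r Q 2 = Q 1 := by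
  rw [← V_rmw, Q]
  exact V_eq (by decide +kernel)

theorem r16 : r Q 16 = Q 4 := by
  rw [← V_rmw, Q]
  exact V_eq (by decide +kernel)

/-- the elements of `R` commuting with `R ∩ 2.HS` -/
theorem cent_cases {y : Cfsg.Spor.HN} (hy : y ∈ RS) (h : ∀ e ∈ CTwoTab.HN.N, e ∈ RS → y * e = e * y) :
    ∃ m, (m = 0 ∨ m = 1 ∨ m = 28 ∨ m = 29) ∧ ∃ b, y = r Q m * sgn0 b := by
  obtain ⟨m, hm, b, hb⟩ := mem_RS.1 hy
  have key : ∀ k ∈ [1, 2, 12, 16, 28, 29, 40, 96], y * r Q k = r Q k * y := by
    intro k hk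
    refine h _ (r_mem_N k hk) (r_mem_RS ?_)
    have h2 : ([1, 2, 12, 16, 28, 29, 40, 96].all fun m => Nat.blt m 256) = true := by decide
    have := List.all_eq_true.1 h2 k hk
    simpa [Nat.blt_eq] using this
  refine ⟨m, mask_cases hm ?_, b, hb⟩
  have t0 := cnt_of_comm hb (j := 0) (by norm_num) (by rw [← r1]; exact key 1 (by simp))
  have t1 := cnt_of_comm hb (j := 1) (by norm_num) (by rw [← r2]; exact key 2 (by simp))
  have t4 := cnt_of_comm hb (j := 4) (by norm_num) (by rw [← r16]; exact key 16 (by simp))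
  have t23 := cnt_of_comm2 hb (i := 2) (j := 3) (by norm_num) (by norm_num) (by rw [← r12]; exact key 12 (by simp))
  have t35 := cnt_of_comm2 hb (i := 3) (j := 5) (by norm_num) (by norm_num) (by rw [← r40]; exact key 40 (by simp))
  have t56 := cnt_of_comm2 hb (i := 5) (j := 6) (by norm_num) (by norm_num) (by rw [← r96]; exact key 96 (by simp))
  rw [tst, t0, t1, t4, t23, t35, t56]
  rfl

/-- automorphisms fixing `W0` preserve `R` -/
theorem map_RS {t : MulAut Cfsg.Spor.HN} (ht : t W0 = W0) {x : Cfsg.Spor.HN} (hx : x ∈ RS) : t x ∈ RS := by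
  have hts : t.symm W0 = W0 := by rw [MulEquiv.symm_apply_eq, ht]
  have h1 : RS.map t.toMonoidHom ≤ RS := by
    apply two_group_le
    · rintro _ ⟨y, hy, rfl⟩
      have h2 := mem_PP.1 (RS_le_PP hy)
      rw [mem_PP]
      change t y * W0 = W0 * t y
      rw [← ht, ← map_mul, h2, map_mul]
    · rintro u hu _ ⟨y, hy, rfl⟩
      refine ⟨t.symm u * y * (t.symm u)⁻¹, conj_RS ?_ hy, ?_⟩
      · rw [mem_PP]
        have h2 := mem_PP.1 (MM_le_PP hu)
        rw [← hts, ← map_mul, h2, map_mul]
      · change t (t.symm u * y * (t.symm u)⁻¹) = u * t y * u⁻¹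
        rw [map_mul, map_mul, map_inv, MulEquiv.apply_symm_apply]
    · exact RS_isPGroup.map _
  exact h1 ⟨x, hx, rfl⟩

/-- **An involutory automorphism centralizing `2.HS` is inner.** -/
theorem inner_of_fix {t : MulAut Cfsg.Spor.HN} (htt : t * t = 1) (ht : ∀ x ∈ CTwoTab.HN.N, t x = x) :
    ∃ g, t = MulAut.conj g := by
  have htt' : ∀ x, t (t x) = x := fun x => DFunLike.congr_fun htt x
  have hW : t W0 = W0 := ht _ W0_mem_N
  have hQ : Q 0 ∈ RS := by
    rw [← r1]
    exact r_mem_RS (by norm_num)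
  have hQ1 : Q 0 ≠ 1 := Q0_ne
  have hQW : Q 0 ≠ W0 := by
    intro h
    have h1 := Cfsg.Agent.KFacts.HN.Classes.not_isConj
    rw [← Cfsg.Agent.KFacts.HN.Q0_eq, h] at h1
    exact h1 (IsConj.refl _)
  suffices hα : ∀ x ∈ RS, (t x = x ∨ t x = x * W0) ∨ t x = x * Q 0 ∨ t x = x * (Q 0 * W0) by
    obtain ⟨y, -, h⟩ := aut0 hW (trivial_on large hQ hQ1 hQW Q0_sq hW hα)
    exact ⟨y, h⟩
  intro x hx
  have hxW : x * W0 = W0 * x := mem_PP.1 (RS_le_PP hx)
  set y := x⁻¹ * t x with hydef
  have hy : y ∈ RS := RS.mul_mem (RS.inv_mem hx) (map_RS hW hx)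
  have htx : t x = x * y := by rw [hydef]; group
  have hc : ∀ e ∈ CTwoTab.HN.N, e ∈ RS → y * e = e * y := by
    intro e he heR
    have h1 : t e = e := ht e he
    have hxi := RS.inv_mem hx
    have h2 : x * e * x⁻¹ = e ∨ x * e * x⁻¹ = e * W0 := by
      rcases large.comm x hx e heR with h | h
      · left; rw [h, mul_inv_cancel_right]
      · right; rw [h, mul_assoc (e * x), ← large.comm_z _ hxi]; group
    have h3 : t x * e * (t x)⁻¹ = x * e * x⁻¹ := by
      have h4 : t (x * e * x⁻¹) = x * e * x⁻¹ := by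
        rcases h2 with h | h
        · rw [h, h1]
        · rw [h, map_mul, h1, hW]
      rw [← h4, map_mul, map_mul, map_inv, h1]
    calc y * e = x⁻¹ * (t x * e * (t x)⁻¹) * t x := by rw [hydef]; group
      _ = e * y := by rw [h3, hydef]; group
  obtain ⟨m, hm, b, hb⟩ := cent_cases hy hc
  have hty : t y = y := by
    rw [hb, map_mul]
    have h1 : t (r Q m) = r Q m := by
      rcases hm with rfl | rfl | rfl | rfl
      · rw [show r Q 0 = 1 from Bas.r_zero, map_one]
      · exact ht _ (r_mem_N 1 (by simp))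
      · exact ht _ (r_mem_N 28 (by simp))
      · exact ht _ (r_mem_N 29 (by simp))
    have h2 : t (sgn0 b) = sgn0 b := by
      cases b
      · exact map_one t
      · exact hW
    rw [h1, h2]
  have hyy : y * y = 1 := by
    have h1 := htt' x
    rw [htx, map_mul, htx, hty, mul_assoc] at h1
    exact mul_eq_left.1 h1
  have hbc : sgn0 b = 1 ∨ sgn0 b = W0 := by
    cases b
    · exact Or.inl rfl
    · exact Or.inr rfl
  have hcomm : sgn0 b * r Q m = r Q m * sgn0 b := by
    rcases hbc with h | h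
    · rw [h, one_mul, mul_one]
    · rw [h, cwr]
  have hbb : sgn0 b * sgn0 b = 1 := by rw [sgn0_mul, Bool.xor_self]; rfl
  have hsq : y * y = r Q m * r Q m := by
    rw [hb]
    calc r Q m * sgn0 b * (r Q m * sgn0 b) = r Q m * (sgn0 b * r Q m) * sgn0 b := by group
      _ = r Q m * r Q m * (sgn0 b * sgn0 b) := by rw [hcomm]; group
      _ = _ := by rw [hbb, mul_one]
  rw [hyy] at hsq
  rw [htx, hb]
  rcases hm with rfl | rfl | rfl | rfl
  · left
    rw [show r Q 0 = 1 from Bas.r_zero, one_mul]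
    rcases hbc with h | h
    · left; rw [h, mul_one]
    · right; rw [h]
  · right
    rw [r1]
    rcases hbc with h | h
    · left; rw [h, mul_one]
    · right; rw [h]
  · exfalso
    rw [sq28] at hsq
    exact W0_ne hsq.symm
  · exfalso
    rw [sq29] at hsq
    exact W0_ne hsq.symm

end Cfsg.Agent.H287.OutHN
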